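import Groth.Prelude.Def_AlgSpDec
import Groth.Prelude.Def_AlgSp3

/-!
# Points of fppf sheaves: lifting field-valued points through representable maps

* `ofPt_yon_comp` : `ofPt (h_φ ≫ g) t = ofPt g (φ t)`;
* `ofPt_eq_mk_iff`, `exists_pullback_point` : a point of the fibre product of two scheme charts over a pair
  of points with the same image;
* `ofPt_surjective` : a representable surjective chart is surjective on points;
* `isOpenMap_ofPt` : a representable etale chart is open on points.
-/

set_option autoImplicit false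
universe u
open CategoryTheory CategoryTheory.Limits AlgebraicGeometry Opposite Topology TopologicalSpace
open AlgSp

set_option backward.isDefEq.respectTransparency false

namespace K611

variable {S : Scheme.{u}} {F G : Sp S}

theorem ofPt_yon_map {T T' : Over S} (φ : T ⟶ T') (t : ↥T.left) :
    Points.ofPt ((yon S).map φ) t = Points.ofScheme T' (φ.left t) := by
  rw [← Points.toScheme_ofPt φ t, Points.ofScheme_toScheme]

theorem ofPt_yon_comp {T T' : Over S} (φ : T ⟶ T') (g : (yon S).obj T' ⟶ F) (t : ↥T.left) :
    Points.ofPt ((yon S).map φ ≫ g) t = Points.ofPt g (φ.left t) := by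
  rw [← Points.map_ofPt, ofPt_yon_map, ← Points.ofPt_eq_map_ofScheme]

/-- Two points of charts with the same image in `F` come from a field-valued point of both. -/
theorem exists_common_field {U V : Over S} (a : (yon S).obj U ⟶ F) (b : (yon S).obj V ⟶ F)
    (x : ↥U.left) (y : ↥V.left) (h : Points.ofPt a x = Points.ofPt b y) :
    ∃ (Ω : Type u) (_ : Field Ω) (w : Spec (CommRingCat.of Ω) ⟶ S) (f : Over.mk w ⟶ U)
      (g : Over.mk w ⟶ V), (yon S).map f ≫ a = (yon S).map g ≫ b ∧
        f.left (IsLocalRing.closedPoint Ω) = x ∧ g.left (IsLocalRing.closedPoint Ω) = y := by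
  obtain ⟨Ω, _, w, f, g, hfg⟩ := Points.mk_eq_mk_iff.1 h
  let fx : (FieldPt.ofPt a x).pt ⟶ U := Over.homMk (U.left.fromSpecResidueField x) rfl
  let gy : (FieldPt.ofPt b y).pt ⟶ V := Over.homMk (V.left.fromSpecResidueField y) rfl
  refine ⟨Ω, inferInstance, w, f ≫ fx, g ≫ gy, ?_, ?_, ?_⟩
  · rw [Functor.map_comp, Functor.map_comp, Category.assoc, Category.assoc,
      ← FieldPt.toHom_ofPt a x, ← FieldPt.toHom_ofPt b y]
    apply (J S).uliftYonedaEquiv.injective
    rw [GrothendieckTopology.uliftYonedaEquiv_comp, GrothendieckTopology.uliftYonedaEquiv_comp,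
      GrothendieckTopology.uliftYonedaEquiv_uliftYoneda_map,
      GrothendieckTopology.uliftYonedaEquiv_uliftYoneda_map]
    change (FieldPt.ofPt a x).toHom.hom.app _ ⟨f⟩ = (FieldPt.ofPt b y).toHom.hom.app _ ⟨g⟩
    rw [FieldPt.toHom_app, FieldPt.toHom_app]
    exact hfg
  · change (f.left ≫ U.left.fromSpecResidueField x) _ = x
    rw [Scheme.Hom.comp_apply]
    exact Scheme.fromSpecResidueField_apply _ _
  · change (g.left ≫ V.left.fromSpecResidueField y) _ = y
    rw [Scheme.Hom.comp_apply]
    exact Scheme.fromSpecResidueField_apply _ _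

/-- In a represented fibre product, a pair of points with the same image in `F` is the image of a point. -/
theorem exists_point_of_isPullback {U V W : Over S} {a : (yon S).obj U ⟶ F} {b : (yon S).obj V ⟶ F}
    {p : W ⟶ U} {q : W ⟶ V} (sq : IsPullback ((yon S).map p) ((yon S).map q) a b)
    (x : ↥U.left) (y : ↥V.left) (h : Points.ofPt a x = Points.ofPt b y) :
    ∃ w : ↥W.left, p.left w = x ∧ q.left w = y := by
  obtain ⟨Ω, _, w, f, g, hfg, hx, hy⟩ := exists_common_field a b x y h
  obtain ⟨l, hl⟩ := (yon S).map_surjective (sq.lift _ _ hfg)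
  have h1 : l ≫ p = f := (yon S).map_injective (by rw [Functor.map_comp, hl]; exact sq.lift_fst _ _ _)
  have h2 : l ≫ q = g := (yon S).map_injective (by rw [Functor.map_comp, hl]; exact sq.lift_snd _ _ _)
  refine ⟨l.left (IsLocalRing.closedPoint Ω), ?_, ?_⟩
  · rw [← Scheme.Hom.comp_apply, ← Over.comp_left, h1, hx]
  · rw [← Scheme.Hom.comp_apply, ← Over.comp_left, h2, hy]

/-- The represented fibre product of a representable chart with another chart, with projections induced by
morphisms of schemes. -/
theorem exists_pullback {U V : Over S} (a : (yon S).obj U ⟶ F) (b : (yon S).obj V ⟶ F)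
    (ha : Representable a) :
    ∃ (W : Over S) (p : W ⟶ U) (q : W ⟶ V), IsPullback ((yon S).map p) ((yon S).map q) a b := by
  obtain ⟨W, snd, fst, sq⟩ := ha b
  obtain ⟨fst', rfl⟩ := (yon S).map_surjective fst
  exact ⟨W, fst', snd, sq⟩

/-- A representable surjective chart is surjective on points. -/
theorem ofPt_surjective {U : Over S} {a : (yon S).obj U ⟶ F} (ha : RepWith @Surjective a) :
    Function.Surjective (Points.ofPt a) := by
  intro x
  induction x using Points.ind with
  | h p =>
    obtain ⟨W, f, g, sq⟩ := exists_pullback a p.toHom ha.1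
    have hg : Surjective g.left := ha.2 _ _ _ sq
    obtain ⟨w, -⟩ := hg.surj (IsLocalRing.closedPoint p.K)
    refine ⟨f.left w, ?_⟩
    rw [← ofPt_yon_comp, sq.w, ofPt_yon_comp]
    exact Points.ofPt_toHom p _

/-- A chart which is representable by universally open morphisms (for instance etale) is open on points. -/
theorem isOpenMap_ofPt_of_open {U : Over S} {a : (yon S).obj U ⟶ F} (hr : Representable a)
    (ho : ∀ ⦃V W : Over S⦄ (b : (yon S).obj V ⟶ F) (p : W ⟶ U) (q : W ⟶ V),
      IsPullback ((yon S).map p) ((yon S).map q) a b → IsOpenMap q.left) :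
    IsOpenMap (Points.ofPt a) := by
  intro O hO
  refine Points.isOpen_iff.2 fun T b => ?_
  obtain ⟨W, p, q, sq⟩ := exists_pullback a b hr
  have : Points.ofPt b ⁻¹' (Points.ofPt a '' O) = q.left '' (p.left ⁻¹' O) := by
    ext t
    constructor
    · rintro ⟨x, hx, hxt⟩
      obtain ⟨w, hw1, hw2⟩ := exists_point_of_isPullback sq x t hxt
      exact ⟨w, by rw [Set.mem_preimage, hw1]; exact hx, hw2⟩
    · rintro ⟨w, hw, rfl⟩
      refine ⟨p.left w, hw, ?_⟩
      rw [← ofPt_yon_comp, sq.w, ofPt_yon_comp]
  rw [this]
  exact ho b p q sq _ (hO.preimage p.left.continuous)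

/-- A representable etale chart is open on points. -/
theorem isOpenMap_ofPt {U : Over S} {a : (yon S).obj U ⟶ F} (ha : RepWith @Etale a) :
    IsOpenMap (Points.ofPt a) :=
  isOpenMap_ofPt_of_open ha.1 fun V W b p q sq => by
    have : Etale q.left := ha.2 _ _ _ sq
    exact q.left.isOpenMap

end K611
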