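import Mathlib.AlgebraicGeometry.Sites.EtalePoint
import Groth.Prelude.Def_AlgSpOX3
import Groth.Agent.AlgSp.K611.Pt

/-!
# Geometric points: lifting through etale charts, the category of etale neighbourhoods is cofiltered

* `exists_lift` : a geometric point of `F` lifts through a representable etale chart to a prescribed point;
* `exists_lift_mor` : the same through an etale morphism of sheaves with an etale atlas on the source;
* `isCofiltered_etNbhd` : the category of etale neighbourhoods is cofiltered.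
-/

set_option autoImplicit false
universe u
open CategoryTheory CategoryTheory.Limits AlgebraicGeometry Opposite Topology TopologicalSpace
open AlgSp

set_option backward.isDefEq.respectTransparency false

namespace K611

variable {S : Scheme.{u}} {F G : Sp S}

instance subsingleton_pt (p : FieldPt F) : Subsingleton ↥(p.pt).left :=
  inferInstanceAs (Subsingleton ↥(Spec (CommRingCat.of p.K)))

/-- A field-valued point with separably closed field lifts through a representable etale chart, to any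
prescribed point of the chart over its image. -/
theorem exists_lift {U : Over S} {a : (yon S).obj U ⟶ F} (ha : RepWith @Etale a) (p : FieldPt F)
    (hp : IsSepClosed p.K) (v : ↥U.left) (h : Points.ofPt a v = Points.mk p) :
    ∃ l : p.pt ⟶ U, (yon S).map l ≫ a = p.toHom ∧ l.left (IsLocalRing.closedPoint p.K) = v := by
  obtain ⟨W, f, g, sq⟩ := exists_pullback a p.toHom ha.1
  have hg : Etale g.left := ha.2 _ _ _ sq
  obtain ⟨w, hw1, hw2⟩ := exists_point_of_isPullback sq v (IsLocalRing.closedPoint p.K)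
    (h.trans (Points.ofPt_toHom p _).symm)
  obtain ⟨l, hl1, hl2⟩ := Scheme.exists_fac_of_etale_of_isSepClosed g.left (𝟙 _) w
    (Subsingleton.elim _ _)
  let l' : p.pt ⟶ W := Over.homMk l (by
    rw [← Over.w g, ← Category.assoc]
    exact (congrArg (· ≫ p.str) hl1).trans (Category.id_comp _))
  have hl' : l' ≫ g = 𝟙 _ := Over.OverMorphism.ext hl1
  refine ⟨l' ≫ f, ?_, ?_⟩
  · rw [Functor.map_comp, Category.assoc, sq.w, ← Category.assoc, ← Functor.map_comp, hl',
      (yon S).map_id, Category.id_comp]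
  · rw [Over.comp_left, Scheme.Hom.comp_apply, ← hw1, ← hl2]
    exact congrArg (fun z => f.left (l z)) (Subsingleton.elim _ _)

/-- A field-valued point with separably closed field has a lift to every representable etale surjective
chart. -/
theorem exists_lift_of_surjective {U : Over S} {a : (yon S).obj U ⟶ F} (ha : RepWith @Etale a)
    (ha' : RepWith @Surjective a) (p : FieldPt F) (hp : IsSepClosed p.K) :
    ∃ l : p.pt ⟶ U, (yon S).map l ≫ a = p.toHom := by
  obtain ⟨v, hv⟩ := ofPt_surjective ha' (Points.mk p)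
  obtain ⟨l, hl, -⟩ := exists_lift ha p hp v hv
  exact ⟨l, hl⟩

/-- The point of `F` hit by a chart composed with a field-valued point is the class of the point. -/
theorem ofPt_lift {U : Over S} {a : (yon S).obj U ⟶ F} (p : FieldPt F) (l : p.pt ⟶ U)
    (hl : (yon S).map l ≫ a = p.toHom) (s : ↥(p.pt).left) :
    Points.ofPt a (l.left s) = Points.mk p := by
  rw [← ofPt_yon_comp, hl]
  exact Points.ofPt_toHom p s

/-- Lifting of geometric points along etale morphisms of sheaves. -/
theorem exists_lift_mor {U X : Sp S} (hU : ∃ (V : Over S) (b : (yon S).obj V ⟶ U), RepWith @Etale b ∧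
    RepWith @Surjective b) (φ : U ⟶ X) (hφ : IsEtaleMor φ) (xbar : FieldPt X)
    (hx : IsSepClosed xbar.K) (u : Points U) (hu : Points.map φ u = Points.mk xbar) :
    ∃ ubar : (yon S).obj xbar.pt ⟶ U,
      ubar ≫ φ = xbar.toHom ∧ Points.ofPt ubar (IsLocalRing.closedPoint xbar.K) = u := by
  obtain ⟨V, b, hb, hb'⟩ := hU
  obtain ⟨v, rfl⟩ := ofPt_surjective hb' u
  obtain ⟨l, hl, hl'⟩ := exists_lift (hφ b hb) xbar hx v ((Points.map_ofPt b φ v).symm.trans hu)
  refine ⟨(yon S).map l ≫ b, by rw [Category.assoc, hl], ?_⟩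
  rw [ofPt_yon_comp]
  exact congrArg (Points.ofPt b) hl'

/-! ### The category of etale neighbourhoods -/

section Nbhd

variable {X : Sp S} (p : FieldPt X)

/-- The etale neighbourhood given by an etale chart and a lift. -/
abbrev mkNbhd {U : Over S} (a : (yon S).obj U ⟶ X) (ha : RepWith @Etale a) (l : p.pt ⟶ U)
    (hl : (yon S).map l ≫ a = p.toHom) : EtNbhd p :=
  ⟨EtOver.mk a ha, ⟨l, hl⟩⟩

/-- Morphisms of etale neighbourhoods. -/
noncomputable abbrev nbhdHom {N N' : EtNbhd p} (g : N.1 ⟶ N'.1) (h : N.2.1 ≫ g.hom.left = N'.2.1) : N ⟶ N' :=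
  CategoryOfElements.homMk N N' g (Subtype.ext h)

theorem nbhdHom_w {N N' : EtNbhd p} (g : N ⟶ N') : N.2.1 ≫ g.1.hom.left = N'.2.1 :=
  congrArg Subtype.val g.2

/-- Binary products of etale neighbourhoods. -/
theorem exists_nbhd_prod (N N' : EtNbhd p) : ∃ M : EtNbhd p, ∃ (_ : M ⟶ N) (_ : M ⟶ N'), True := by
  obtain ⟨E, ⟨e, he⟩⟩ := N
  obtain ⟨E', ⟨e', he'⟩⟩ := N'
  let hr := E'.property.1
  let m : p.pt ⟶ (EtOver.prodObj E E').obj.left :=
    hr.lift' e' e (by rw [he, he'])
  have hm1 : m ≫ (EtOver.prodFst E E').hom.left = e := hr.lift'_snd _ _ _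
  have hm2 : m ≫ (EtOver.prodSnd E E').hom.left = e' := hr.lift'_fst _ _ _
  refine ⟨⟨EtOver.prodObj E E', ⟨m, ?_⟩⟩, nbhdHom p (EtOver.prodFst E E') hm1,
    nbhdHom p (EtOver.prodSnd E E') hm2, trivial⟩
  rw [← EtOver.w (EtOver.prodFst E E'), ← Category.assoc, ← Functor.map_comp, hm1, he]

/-- Equalizing two morphisms of etale neighbourhoods. -/
theorem exists_nbhd_eq {N N' : EtNbhd p} (f g : N ⟶ N') :
    ∃ (M : EtNbhd p) (h : M ⟶ N), h ≫ f = h ≫ g := by
  have hf : N.2.1 ≫ f.1.hom.left = N'.2.1 := nbhdHom_w p f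
  have hg : N.2.1 ≫ g.1.hom.left = N'.2.1 := nbhdHom_w p g
  let L := EtOver.prodIsLimit N'.1 N'.1
  let δ : N'.1 ⟶ EtOver.prodObj N'.1 N'.1 := BinaryFan.IsLimit.lift L (𝟙 _) (𝟙 _)
  let k : N.1 ⟶ EtOver.prodObj N'.1 N'.1 := BinaryFan.IsLimit.lift L f.1 g.1
  have hδ1 : δ ≫ EtOver.prodFst N'.1 N'.1 = 𝟙 _ := BinaryFan.IsLimit.lift_fst L _ _
  have hδ2 : δ ≫ EtOver.prodSnd N'.1 N'.1 = 𝟙 _ := BinaryFan.IsLimit.lift_snd L _ _
  have hk1 : k ≫ EtOver.prodFst N'.1 N'.1 = f.1 := BinaryFan.IsLimit.lift_fst L _ _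
  have hk2 : k ≫ EtOver.prodSnd N'.1 N'.1 = g.1 := BinaryFan.IsLimit.lift_snd L _ _
  have hw : N.2.1 ≫ k.hom.left = N'.2.1 ≫ δ.hom.left := by
    apply Functor.relativelyRepresentable.hom_ext' N'.1.property.1
    · have e1 : k.hom.left ≫ (EtOver.prodSnd N'.1 N'.1).hom.left = g.1.hom.left :=
        congrArg (fun m => m.hom.left) hk2
      have e2 : δ.hom.left ≫ (EtOver.prodSnd N'.1 N'.1).hom.left = 𝟙 _ :=
        congrArg (fun m => m.hom.left) hδ2
      change (N.2.1 ≫ k.hom.left) ≫ (EtOver.prodSnd N'.1 N'.1).hom.left =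
        (N'.2.1 ≫ δ.hom.left) ≫ (EtOver.prodSnd N'.1 N'.1).hom.left
      rw [Category.assoc, Category.assoc, e1, e2, Category.comp_id, hg]
    · have e1 : k.hom.left ≫ (EtOver.prodFst N'.1 N'.1).hom.left = f.1.hom.left :=
        congrArg (fun m => m.hom.left) hk1
      have e2 : δ.hom.left ≫ (EtOver.prodFst N'.1 N'.1).hom.left = 𝟙 _ :=
        congrArg (fun m => m.hom.left) hδ1
      change (N.2.1 ≫ k.hom.left) ≫ (EtOver.prodFst N'.1 N'.1).hom.left =
        (N'.2.1 ≫ δ.hom.left) ≫ (EtOver.prodFst N'.1 N'.1).hom.left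
      rw [Category.assoc, Category.assoc, e1, e2, Category.comp_id, hf]
  let m : p.pt ⟶ (EtOver.pullbackObj k δ).obj.left := pullback.lift N.2.1 N'.2.1 hw
  have hm : m ≫ (EtOver.pullbackFst k δ).hom.left = N.2.1 := pullback.lift_fst _ _ _
  refine ⟨⟨EtOver.pullbackObj k δ, ⟨m, ?_⟩⟩, nbhdHom p (EtOver.pullbackFst k δ) hm, ?_⟩
  · rw [← EtOver.w (EtOver.pullbackFst k δ), ← Category.assoc, ← Functor.map_comp, hm]
    exact N.2.2
  · apply CategoryOfElements.ext
    change EtOver.pullbackFst k δ ≫ f.1 = EtOver.pullbackFst k δ ≫ g.1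
    rw [← hk1, ← hk2, ← Category.assoc, ← Category.assoc, EtOver.pullback_condition,
      Category.assoc, Category.assoc, hδ1, hδ2]

/-- The category of etale neighbourhoods of a field-valued point is cofiltered as soon as there is one
neighbourhood. -/
theorem isCofiltered_etNbhd_of_nonempty (h : Nonempty (EtNbhd p)) : IsCofiltered (EtNbhd p) where
  cone_objs N N' := by
    obtain ⟨M, a, b, -⟩ := exists_nbhd_prod p N N'
    exact ⟨M, a, b, trivial⟩
  cone_maps N N' f g := exists_nbhd_eq p f g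
  nonempty := h

theorem nonempty_etNbhd (hX : IsAlgSpace X) (hp : IsSepClosed p.K) : Nonempty (EtNbhd p) := by
  obtain ⟨U, a, ha, ha'⟩ := hX.atlas
  obtain ⟨l, hl⟩ := exists_lift_of_surjective ha ha' p hp
  exact ⟨mkNbhd p a ha l hl⟩

theorem isCofiltered_etNbhd (hX : IsAlgSpace X) (hp : IsSepClosed p.K) : IsCofiltered (EtNbhd p) :=
  isCofiltered_etNbhd_of_nonempty p (nonempty_etNbhd p hX hp)

/-- Lifting a geometric point to a member of an etale covering. -/
theorem exists_lift_of_cover (hp : IsSepClosed p.K) (N : EtNbhd p) {ι : Type*} (Ui : ι → EtOver X)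
    (g : ∀ i, Ui i ⟶ N.1)
    (hcov : ∀ x : ↥N.1.obj.left.left, ∃ i, x ∈ Set.range (g i).hom.left.left) :
    ∃ (i : ι) (ui : (FieldPt.liftsTo p).obj (Ui i)), (FieldPt.liftsTo p).map (g i) ui = N.2 := by
  obtain ⟨i, v, hv⟩ := hcov (N.2.1.left (IsLocalRing.closedPoint p.K))
  have hgi : Etale (g i).hom.left.left := EtOver.etale_left (g i)
  obtain ⟨l, hl1, -⟩ := Scheme.exists_fac_of_etale_of_isSepClosed (g i).hom.left.left
    N.2.1.left v (hv.trans (congrArg _ (Subsingleton.elim _ _)))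
  let l' : p.pt ⟶ (Ui i).obj.left := Over.homMk l (by
    rw [← Over.w (g i).hom.left, ← Category.assoc]
    exact (congrArg (· ≫ N.1.obj.left.hom) hl1).trans (Over.w N.2.1))
  have hl' : l' ≫ (g i).hom.left = N.2.1 := Over.OverMorphism.ext hl1
  refine ⟨i, ⟨l', ?_⟩, Subtype.ext hl'⟩
  rw [← EtOver.w (g i), ← Category.assoc, ← Functor.map_comp, hl']
  exact N.2.2

end Nbhd

end K611
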