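import Mathlib.CategoryTheory.Filtered.Final
import Mathlib.AlgebraicGeometry.Sites.EtalePoint
import Groth.Agent.AlgSp.K611.GeomPt

/-!
# The point of the small etale site of an algebraic space defined by a geometric point

* `chartNbhd` : the functor from the etale neighbourhoods in a chart `(U, ξ)` to the etale neighbourhoods of `p`;
  it is initial (`initial_chartNbhd`);
* `ptEt` : the point of the site with fibre functor `AlgSp.FieldPt.liftsTo p`.
-/

set_option autoImplicit false
universe u
open CategoryTheory CategoryTheory.Limits AlgebraicGeometry Opposite Topology TopologicalSpace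
open AlgSp

set_option backward.isDefEq.respectTransparency false

namespace K611

variable {S : Scheme.{u}} {X : Sp S} (p : FieldPt X) [hp : IsSepClosed p.K]
  {U : Over S} (a : (yon S).obj U ⟶ X) (ha : RepWith @Etale a) (l : p.pt ⟶ U)
  (hl : (yon S).map l ≫ a = p.toHom)

/-- The underlying morphism of a point of the fibre. -/
noncomputable def vl {T : Scheme.{u}} {Ω : Type u} [Field Ω] [IsSepClosed Ω]
    {ξ : Spec (CommRingCat.of Ω) ⟶ T} {V : T.Etale} (v : (Scheme.pointSmallEtale ξ).fiber.obj V) :
    Spec (CommRingCat.of Ω) ⟶ V.left := CommaMorphism.left v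

theorem vl_hom {T : Scheme.{u}} {Ω : Type u} [Field Ω] [IsSepClosed Ω]
    {ξ : Spec (CommRingCat.of Ω) ⟶ T} {V : T.Etale} (v : (Scheme.pointSmallEtale ξ).fiber.obj V) :
    vl v ≫ V.hom = ξ := Over.w v

theorem vl_map {T : Scheme.{u}} {Ω : Type u} [Field Ω] [IsSepClosed Ω]
    {ξ : Spec (CommRingCat.of Ω) ⟶ T} {V W : T.Etale} (v : (Scheme.pointSmallEtale ξ).fiber.obj V)
    (f : V ⟶ W) : vl ((Scheme.pointSmallEtale ξ).fiber.map f v) = vl v ≫ f.left := rfl

/-- The geometric point of the chart given by a lift. -/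
noncomputable abbrev gpt : Spec (CommRingCat.of p.K) ⟶ U.left := l.left

/-- The functor from the etale neighbourhoods of a lift of `p` to a chart `U` to the etale neighbourhoods of
`p`. -/
noncomputable def chartNbhd : (Scheme.pointSmallEtale (gpt p l)).fiber.Elements ⥤ EtNbhd p where
  obj V := ⟨(EtOver.ofChart a ha).obj V.1,
    ⟨Over.homMk (vl V.2) (by
      have h1 : vl V.2 ≫ V.1.hom = l.left := vl_hom V.2
      change vl V.2 ≫ V.1.hom ≫ U.hom = p.str
      rw [← Category.assoc, h1]
      exact Over.w l), by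
      change (yon S).map _ ≫ (yon S).map (EtOver.homOfEtale V.1) ≫ a = p.toHom
      rw [← Category.assoc, ← Functor.map_comp, ← hl]
      congr 2
      apply Over.OverMorphism.ext
      exact vl_hom V.2⟩⟩
  map {V W} f := ⟨(EtOver.ofChart a ha).map f.1, by
    apply Subtype.ext
    apply Over.OverMorphism.ext
    exact congrArg vl f.2⟩
  map_id V := by
    apply CategoryOfElements.ext
    exact (EtOver.ofChart a ha).map_id V.1
  map_comp f g := by
    apply CategoryOfElements.ext
    exact (EtOver.ofChart a ha).map_comp f.1 g.1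

/-- Every neighbourhood over a chart neighbourhood comes from the chart. -/
theorem exists_chartNbhd_hom {c : (Scheme.pointSmallEtale (gpt p l)).fiber.Elements} {M : EtNbhd p}
    (m : M ⟶ (chartNbhd p a ha l hl).obj c) :
    ∃ (c' : (Scheme.pointSmallEtale (gpt p l)).fiber.Elements) (t : c' ⟶ c)
      (k : (chartNbhd p a ha l hl).obj c' ⟶ M), k ≫ m = (chartNbhd p a ha l hl).map t := by
  obtain ⟨V, v⟩ := c
  have hV : Etale V.hom := V.prop
  have hm : Etale m.1.hom.left.left := EtOver.etale_left m.1
  let mm : M.1.obj.left.left ⟶ V.left := m.1.hom.left.left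
  have hmm : Etale mm := hm
  let V' : U.left.Etale := Scheme.Etale.mk (mm ≫ V.hom)
  have e1 : M.2.1.left ≫ mm = vl v :=
    congrArg (fun z => z.left) (nbhdHom_w p m)
  have hv : vl v ≫ V.hom = l.left := vl_hom v
  let v' : (Scheme.pointSmallEtale (gpt p l)).fiber.obj V' := Over.homMk M.2.1.left (by
    change M.2.1.left ≫ mm ≫ V.hom = l.left
    rw [← Category.assoc, e1, hv])
  let t : V' ⟶ V := MorphismProperty.Over.homMk mm rfl trivial
  have hUM : mm ≫ V.hom ≫ U.hom = M.1.obj.left.hom := Over.w m.1.hom.left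
  refine ⟨⟨V', v'⟩, ⟨t, ?_⟩, ⟨EtOver.homMk (Over.homMk (𝟙 _) ?_) ?_, ?_⟩, ?_⟩
  · apply Over.OverMorphism.ext
    exact e1
  · change 𝟙 _ ≫ M.1.obj.left.hom = (mm ≫ V.hom) ≫ U.hom
    rw [Category.id_comp, Category.assoc, hUM]
  · rw [← EtOver.w m.1, ← Category.assoc, ← Functor.map_comp]
    change (yon S).map _ ≫ (yon S).map (EtOver.homOfEtale V) ≫ a =
      (yon S).map (EtOver.homOfEtale V') ≫ a
    rw [← Category.assoc, ← Functor.map_comp]
    congr 2
  · apply Subtype.ext
    apply Over.OverMorphism.ext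
    change M.2.1.left ≫ 𝟙 _ = M.2.1.left
    rw [Category.comp_id]
  · apply CategoryOfElements.ext
    apply EtOver.hom_ext
    apply Over.OverMorphism.ext
    change 𝟙 _ ≫ mm = mm
    rw [Category.id_comp]

/-- The chart itself as a neighbourhood. -/
noncomputable def chartTop : (Scheme.pointSmallEtale (gpt p l)).fiber.Elements :=
  ⟨Scheme.Etale.mk (𝟙 U.left), Over.homMk l.left (Category.comp_id _)⟩

instance initial_chartNbhd : (chartNbhd p a ha l hl).Initial := by
  refine Functor.initial_of_exists_of_isCofiltered _ (fun N => ?_) (fun {d c} s s' => ?_)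
  · obtain ⟨M, f, g, -⟩ := exists_nbhd_prod p N ((chartNbhd p a ha l hl).obj (chartTop p l))
    obtain ⟨c', t, k, -⟩ := exists_chartNbhd_hom p a ha l hl g
    exact ⟨c', ⟨k ≫ f⟩⟩
  · obtain ⟨M, h, hh⟩ := exists_nbhd_eq p s s'
    obtain ⟨c', t, k, hk⟩ := exists_chartNbhd_hom p a ha l hl h
    exact ⟨c', t, by rw [← hk, Category.assoc, Category.assoc, hh]⟩

include hp in
theorem initiallySmall_etNbhd (hX : IsAlgSpace X) : InitiallySmall.{u} (EtNbhd p) := by
  obtain ⟨U, a, ha, ha'⟩ := hX.atlas
  obtain ⟨l, hl⟩ := exists_lift_of_surjective ha ha' p hp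
  exact initiallySmall_of_initial_of_initiallySmall (chartNbhd p a ha l hl)

/-- The point of the small etale site defined by a geometric point. -/
noncomputable def ptEt (hX : IsAlgSpace X) : GrothendieckTopology.Point.{u} (etTop X) where
  fiber := FieldPt.liftsTo p
  isCofiltered := isCofiltered_etNbhd p hX hp
  initiallySmall := initiallySmall_etNbhd p hX
  jointly_surjective {E} R hR x := by
    obtain ⟨R', hR', hle⟩ := Precoverage.mem_toGrothendieck_iff_of_isStableUnderComposition.1 hR
    obtain ⟨ι, Y, g, rfl⟩ := R'.exists_eq_ofArrows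
    obtain ⟨i, ui, hui⟩ := exists_lift_of_cover p hp ⟨E, x⟩ Y g ((ofArrows_mem_etPre_iff Y g).1 hR')
    exact ⟨Y i, g i, hle _ _ (Presieve.ofArrows.mk i), ui, hui⟩

end K611
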