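import Mathlib.CategoryTheory.Sites.Point.Conservative
import Mathlib.CategoryTheory.Sites.LocallyInjective
import Mathlib.CategoryTheory.Sites.LocallySurjective
import Mathlib.CategoryTheory.Sites.EpiMono
import Groth.Agent.AlgSp.K611.EtPoint

/-!
# Geometric points form a conservative family for the small etale site

* `exact_stalkEtFunctor_type`, `exact_stalkEtFunctor_ab`;
* `geomPt E x` : a geometric point through a point of a chart;
* `mem_etTop_of_geometric` : a sieve is covering if it is jointly surjective on geometric fibres;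
* `mono_iff_stalk`, `epi_iff_stalk`.
-/

set_option autoImplicit false
universe u
open CategoryTheory CategoryTheory.Limits AlgebraicGeometry Opposite Topology TopologicalSpace
open AlgSp

set_option backward.isDefEq.respectTransparency false

namespace K611

variable {S : Scheme.{u}} {X : Sp S}

section exact

variable (p : FieldPt X) [hp : IsSepClosed p.K] (hX : IsAlgSpace X)

theorem sheafFiber_ptEt_type : (ptEt p hX).sheafFiber (A := Type (u+1)) = stalkEtFunctor (Type (u+1)) p := rfl

theorem sheafFiber_ptEt_ab :
    (ptEt p hX).sheafFiber (A := AddCommGrpCat.{u+1}) = stalkEtFunctor (AddCommGrpCat.{u+1}) p := rfl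

include hp hX in
theorem exact_stalkEtFunctor_type : PreservesFiniteLimits (stalkEtFunctor (Type (u + 1)) p) ∧
    PreservesFiniteColimits (stalkEtFunctor (Type (u + 1)) p) := by
  have : AB5OfSize.{u, u} (Type (u + 1)) := AB5OfSize_shrink.{u, u, u + 1, u + 1} _
  exact ⟨inferInstanceAs (PreservesFiniteLimits ((ptEt p hX).sheafFiber (A := Type (u+1)))),
    inferInstanceAs (PreservesFiniteColimits ((ptEt p hX).sheafFiber (A := Type (u+1))))⟩

include hp hX in
theorem exact_stalkEtFunctor_ab : PreservesFiniteLimits (stalkEtFunctor AddCommGrpCat.{u + 1} p) ∧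
    PreservesFiniteColimits (stalkEtFunctor AddCommGrpCat.{u + 1} p) := by
  have : AB5OfSize.{u, u} (AddCommGrpCat.{u + 1}) := AB5OfSize_shrink.{u, u, u + 1, u + 1} _
  exact ⟨inferInstanceAs (PreservesFiniteLimits ((ptEt p hX).sheafFiber (A := AddCommGrpCat.{u+1}))),
    inferInstanceAs (PreservesFiniteColimits ((ptEt p hX).sheafFiber (A := AddCommGrpCat.{u+1})))⟩

end exact

/-- The geometric point of a scheme through a point, with field an algebraic closure of the residue field. -/
noncomputable def sgp (T : Scheme.{u}) (x : T) :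
    Spec (CommRingCat.of (AlgebraicClosure (T.residueField x))) ⟶ T :=
  Spec.map (CommRingCat.ofHom (algebraMap (T.residueField x) (AlgebraicClosure (T.residueField x)))) ≫
    T.fromSpecResidueField x

theorem sgp_apply (T : Scheme.{u}) (x : T) (s : Spec (CommRingCat.of (AlgebraicClosure (T.residueField x)))) :
    sgp T x s = x := by
  rw [sgp, Scheme.Hom.comp_apply]
  exact Scheme.fromSpecResidueField_apply _ _

/-- The geometric point of `X` through a point of an object of the site, with field an algebraic closure of
the residue field. -/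
noncomputable def geomPt (E : EtOver X) (x : ↥E.obj.left.left) : FieldPt X where
  K := AlgebraicClosure (E.obj.left.left.residueField x)
  str := sgp E.obj.left.left x ≫ E.obj.left.hom
  val := (J S).uliftYonedaEquiv ((yon S).map (Over.homMk (sgp E.obj.left.left x) rfl) ≫ E.obj.hom)

theorem isGeometric_geomPt (E : EtOver X) (x : ↥E.obj.left.left) : (geomPt E x).IsGeometric :=
  inferInstanceAs (IsAlgClosed (AlgebraicClosure (E.obj.left.left.residueField x)))

/-- The tautological lift of `geomPt E x` to `E`. -/
noncomputable def geomPtLift (E : EtOver X) (x : ↥E.obj.left.left) : (geomPt E x).pt ⟶ E.obj.left :=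
  Over.homMk (sgp E.obj.left.left x) rfl

theorem geomPtLift_w (E : EtOver X) (x : ↥E.obj.left.left) :
    (yon S).map (geomPtLift E x) ≫ E.obj.hom = (geomPt E x).toHom :=
  ((J S).uliftYonedaEquiv.symm_apply_apply _).symm

theorem geomPtLift_apply (E : EtOver X) (x : ↥E.obj.left.left) (s : ↥((geomPt E x).pt).left) :
    (geomPtLift E x).left s = x := sgp_apply _ _ _

/-- The tautological neighbourhood. -/
noncomputable def geomFib (E : EtOver X) (x : ↥E.obj.left.left) :
    (FieldPt.liftsTo (geomPt E x)).obj E := ⟨geomPtLift E x, geomPtLift_w E x⟩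

/-- A sieve which is jointly surjective on geometric fibres is covering. -/
theorem mem_etTop_of_geometric {E : EtOver X} (R : Sieve E)
    (h : ∀ (p : FieldPt X), p.IsGeometric → ∀ x : (FieldPt.liftsTo p).obj E,
      ∃ (Y : EtOver X) (g : Y ⟶ E) (_ : R g) (y : (FieldPt.liftsTo p).obj Y),
        (FieldPt.liftsTo p).map g y = x) : R ∈ etTop X E := by
  choose Y g hg y hy using fun x => h (geomPt E x) (isGeometric_geomPt E x) (geomFib E x)
  refine (etTop X).superset_covering ?_ (ofArrows_mem_etTop Y g fun x => ⟨x, ?_⟩)
  · rw [Sieve.generate_le_iff, Presieve.ofArrows_le_iff]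
    exact hg
  · refine ⟨(y x).1.left (IsLocalRing.closedPoint _), ?_⟩
    have h1 : (y x).1 ≫ (g x).hom.left = geomPtLift E x := congrArg Subtype.val (hy x)
    have h2 : (y x).1.left ≫ (g x).hom.left.left = (geomPtLift E x).left :=
      congrArg (fun z => z.left) h1
    rw [← Scheme.Hom.comp_apply, h2]
    exact geomPtLift_apply E x _

/-- The point of the site at a geometric point, with the hypothesis in the form of the prelude. -/
noncomputable abbrev ptG (hX : IsAlgSpace X) (p : FieldPt X) (hp : p.IsGeometric) :
    GrothendieckTopology.Point.{u} (etTop X) :=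
  @ptEt S X p (have : IsAlgClosed p.K := hp; inferInstance) hX

section local_

universe v' u' w'

variable {A : Type u'} [Category.{v'} A] [HasColimitsOfSize.{u, u} A]
  {FC : A → A → Type*} {CC : A → Type w'}
  [∀ (X Y : A), FunLike (FC X Y) (CC X) (CC Y)] [ConcreteCategory.{w'} A FC]
  [PreservesFilteredColimitsOfSize.{u, u} (forget A)]
  (hX : IsAlgSpace X) {P Q : (EtOver X)ᵒᵖ ⥤ A}

/-- Two sections with the same germs at all geometric points are locally equal. -/
theorem equalizerSieve_mem_of_germ {E : EtOver X} (s t : ToType (P.obj (op E)))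
    (h : ∀ (p : FieldPt X) (hp : p.IsGeometric) (x : (FieldPt.liftsTo p).obj E),
      (ptG hX p hp).toPresheafFiber E x P s = (ptG hX p hp).toPresheafFiber E x P t) :
    Presheaf.equalizerSieve (X := op E) s t ∈ etTop X E := by
  apply mem_etTop_of_geometric
  intro p hp x
  obtain ⟨Y, f, y, hy, hf⟩ := ((ptG hX p hp).toPresheafFiber_eq_iff' E x s t).1 (h p hp x)
  exact ⟨Y, f, hf, y, hy⟩

/-- A morphism of presheaves which is injective on the stalks at all geometric points is locally
injective. -/
theorem isLocallyInjective_of_stalk (f : P ⟶ Q)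
    (h : ∀ (p : FieldPt X) (hp : p.IsGeometric),
      Function.Injective ((ptG hX p hp).presheafFiber.map f)) :
    Presheaf.IsLocallyInjective (etTop X) f where
  equalizerSieve_mem {E} s t hst := by
    apply equalizerSieve_mem_of_germ hX (E := E.unop)
    intro p hp x
    apply h p hp
    have e1 := (ptG hX p hp).toPresheafFiber_naturality_apply f E.unop x s
    have e2 := (ptG hX p hp).toPresheafFiber_naturality_apply f E.unop x t
    rw [e1, e2]
    exact congrArg _ hst

/-- Equality of germs of sections over two neighbourhoods. -/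
theorem exists_common_of_germ_eq (p : FieldPt X) (hp : p.IsGeometric) {Y E : EtOver X}
    (y : (FieldPt.liftsTo p).obj Y) (x : (FieldPt.liftsTo p).obj E) (t : ToType (P.obj (op Y)))
    (s : ToType (P.obj (op E)))
    (h : (ptG hX p hp).toPresheafFiber Y y P t = (ptG hX p hp).toPresheafFiber E x P s) :
    ∃ (M : EtOver X) (m : (FieldPt.liftsTo p).obj M) (α : M ⟶ Y) (β : M ⟶ E),
      (FieldPt.liftsTo p).map α m = y ∧ (FieldPt.liftsTo p).map β m = x ∧
        P.map α.op t = P.map β.op s := by
  obtain ⟨⟨M, m⟩, f, g, -⟩ := exists_nbhd_prod p ⟨Y, y⟩ ⟨E, x⟩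
  have e1 := (ptG hX p hp).toPresheafFiber_w_apply f.1 m P t
  have e2 := (ptG hX p hp).toPresheafFiber_w_apply g.1 m P s
  have hf : (ptG hX p hp).fiber.map f.1 m = y := f.2
  have hg : (ptG hX p hp).fiber.map g.1 m = x := g.2
  rw [hf] at e1
  rw [hg] at e2
  rw [← e1, ← e2] at h
  obtain ⟨M', k, m', hm', hk⟩ := ((ptG hX p hp).toPresheafFiber_eq_iff' M m _ _).1 h
  refine ⟨M', m', k ≫ f.1, k ≫ g.1, ?_, ?_, ?_⟩
  · rw [Functor.map_comp_apply]
    exact (congrArg _ hm').trans f.2
  · rw [Functor.map_comp_apply]
    exact (congrArg _ hm').trans g.2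
  · rw [op_comp, op_comp, Functor.map_comp, Functor.map_comp, ConcreteCategory.comp_apply,
      ConcreteCategory.comp_apply, hk]

/-- A morphism of presheaves which is surjective on the stalks at all geometric points is locally
surjective. -/
theorem isLocallySurjective_of_stalk (f : P ⟶ Q)
    (h : ∀ (p : FieldPt X) (hp : p.IsGeometric),
      Function.Surjective ((ptG hX p hp).presheafFiber.map f)) :
    Presheaf.IsLocallySurjective (etTop X) f where
  imageSieve_mem {E} s := by
    apply mem_etTop_of_geometric
    intro p hp x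
    obtain ⟨z, hz⟩ := h p hp ((ptG hX p hp).toPresheafFiber E x Q s)
    obtain ⟨Y, y, t, rfl⟩ := (ptG hX p hp).toPresheafFiber_jointly_surjective z
    rw [(ptG hX p hp).toPresheafFiber_naturality_apply f Y y t] at hz
    obtain ⟨M, m, α, β, hα, hβ, e⟩ := exists_common_of_germ_eq hX p hp y x _ s hz
    refine ⟨M, β, ⟨P.map α.op t, ?_⟩, m, hβ⟩
    rw [← e]
    exact NatTrans.naturality_apply f α.op t

end local_

section monoepi

variable (hX : IsAlgSpace X) {F G : EtSh X (Type (u + 1))} (a : F ⟶ G)

include hX in
theorem injective_of_mono (h : Mono a) (p : FieldPt X) (hp : p.IsGeometric) :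
    Function.Injective ((stalkEtFunctor (Type (u + 1)) p).map a) := by
  have : IsAlgClosed p.K := hp
  have := (exact_stalkEtFunctor_type p hX).1
  exact (mono_iff_injective _).1 inferInstance

include hX in
theorem surjective_of_epi (h : Epi a) (p : FieldPt X) (hp : p.IsGeometric) :
    Function.Surjective ((stalkEtFunctor (Type (u + 1)) p).map a) := by
  have : IsAlgClosed p.K := hp
  have := (exact_stalkEtFunctor_type p hX).2
  exact (epi_iff_surjective _).1 inferInstance

include hX in
theorem mono_of_injective (h : ∀ (p : FieldPt X), p.IsGeometric →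
    Function.Injective ((stalkEtFunctor (Type (u + 1)) p).map a)) : Mono a := by
  have : Sheaf.IsLocallyInjective a := isLocallyInjective_of_stalk hX a.hom h
  exact Sheaf.mono_of_isLocallyInjective a

include hX in
theorem epi_of_surjective (h : ∀ (p : FieldPt X), p.IsGeometric →
    Function.Surjective ((stalkEtFunctor (Type (u + 1)) p).map a)) : Epi a := by
  have : Sheaf.IsLocallySurjective a := isLocallySurjective_of_stalk hX a.hom h
  exact Sheaf.epi_of_isLocallySurjective a

end monoepi

end K611
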