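import Mathlib.Algebra.Homology.ShortComplex.Ab
import Mathlib.Algebra.Homology.ShortComplex.PreservesHomology
import Mathlib.CategoryTheory.Preadditive.AdditiveFunctor
import Groth.Agent.AlgSp.K611.Conserv

/-!
# Exactness of abelian sheaves on the small etale site is tested on geometric stalks
-/

set_option autoImplicit false
universe u
open CategoryTheory CategoryTheory.Limits AlgebraicGeometry Opposite Topology TopologicalSpace
open AlgSp

set_option backward.isDefEq.respectTransparency false

namespace K611

variable {S : Scheme.{u}} {X : Sp S} (hX : IsAlgSpace X)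

theorem pfc_ab : PreservesFilteredColimitsOfSize.{u, u} (forget AddCommGrpCat.{u + 1}) :=
  preservesFilteredColimitsOfSize_shrink.{u, u + 1, u, u + 1} _

/-- Sections of a sheaf with the same germs at all geometric points are equal. -/
theorem section_ext_ab (F : AbEt X) {E : EtOver X} (s t : ↥(F.obj.obj (op E)))
    (h : ∀ (p : FieldPt X) (hp : p.IsGeometric) (x : (FieldPt.liftsTo p).obj E),
      (ptG hX p hp).toPresheafFiber E x F.obj s = (ptG hX p hp).toPresheafFiber E x F.obj t) : s = t := by
  have := pfc_ab.{u}
  have h1 := equalizerSieve_mem_of_germ hX (P := F.obj) s t h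
  have h2 := ((isSheaf_iff_isSheaf_of_type _ _).1
    ((sheafCompose (etTop X) (forget AddCommGrpCat.{u + 1})).obj F).2).isSeparated _ h1
  exact h2.ext fun Y f hf => hf

include hX in
/-- An abelian sheaf with vanishing geometric stalks is zero. -/
theorem isZero_of_stalk (F : AbEt X)
    (h : ∀ (p : FieldPt X), p.IsGeometric →
      Subsingleton ↥((stalkEtFunctor AddCommGrpCat.{u + 1} p).obj F)) : IsZero F := by
  rw [IsZero.iff_id_eq_zero]
  ext E s
  refine section_ext_ab hX F (E := E.unop) _ _ fun p hp x => ?_
  have := h p hp
  exact @Subsingleton.elim _ this _ _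

include hX in
theorem preservesZero_stalk (p : FieldPt X) (hp : p.IsGeometric) :
    (stalkEtFunctor AddCommGrpCat.{u + 1} p).PreservesZeroMorphisms := by
  have : IsAlgClosed p.K := hp
  have := (exact_stalkEtFunctor_ab p hX).1
  infer_instance

variable (C : ShortComplex (AbEt X))

include hX in
theorem exact_iff_stalk : C.Exact ↔ ∀ p : FieldPt X, p.IsGeometric →
      ∀ y : ↥((AlgSp.stalkEtFunctor AddCommGrpCat.{u + 1} p).obj C.X₂),
        ((AlgSp.stalkEtFunctor AddCommGrpCat.{u + 1} p).map C.g) y = 0 →
          ∃ x : ↥((AlgSp.stalkEtFunctor AddCommGrpCat.{u + 1} p).obj C.X₁),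
            ((AlgSp.stalkEtFunctor AddCommGrpCat.{u + 1} p).map C.f) x = y := by
  constructor
  · intro h p hp
    have : IsAlgClosed p.K := hp
    have := preservesZero_stalk hX p hp
    have := (exact_stalkEtFunctor_ab p hX).1
    have := (exact_stalkEtFunctor_ab p hX).2
    exact (ShortComplex.ab_exact_iff _).1 (h.map (stalkEtFunctor AddCommGrpCat.{u + 1} p))
  · intro h
    rw [ShortComplex.exact_iff_isZero_homology]
    apply isZero_of_stalk hX
    intro p hp
    have : IsAlgClosed p.K := hp
    have := preservesZero_stalk hX p hp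
    have := (exact_stalkEtFunctor_ab p hX).1
    have := (exact_stalkEtFunctor_ab p hX).2
    have h1 : (C.map (stalkEtFunctor AddCommGrpCat.{u + 1} p)).Exact :=
      (ShortComplex.ab_exact_iff _).2 (h p hp)
    rw [ShortComplex.exact_iff_isZero_homology] at h1
    exact AddCommGrpCat.subsingleton_of_isZero
      (h1.of_iso (C.mapHomologyIso (stalkEtFunctor AddCommGrpCat.{u + 1} p)).symm)

end K611
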