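import Mathlib.Algebra.Category.Ring.FilteredColimits
import Groth.Agent.AlgSp.K611.Conserv

/-!
# Germs in the etale local ring of an algebraic space

* `etSub E h` : the etale neighbourhood `h : W ⟶ E.obj.left` of a chart;
* `exists_lift_hom` : lifting of a geometric point along a morphism of `EtOver X` to a prescribed point;
* `og p E x : Γ(E, ⊤) →+* OEtStalk p`, `exists_og`, `exists_og₂`, `og_map`, `og_eq_iff`, `og_eq_zero_iff`.
-/

set_option autoImplicit false
universe v u
open CategoryTheory CategoryTheory.Limits AlgebraicGeometry Opposite Topology TopologicalSpace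
open AlgSp

set_option backward.isDefEq.respectTransparency false

namespace K611

variable {S : Scheme.{u}} {X : Sp S}

/-- The object of the etale site of `X` given by an etale morphism to a chart. -/
noncomputable abbrev etSub (E : EtOver X) {W : Over S} (h : W ⟶ E.obj.left) (hh : Etale h.left) : EtOver X :=
  EtOver.mk ((yon S).map h ≫ E.obj.hom) ((repWith_isMultiplicative (S := S) @Etale).comp_mem _ _
    ((repWith_yon_map_iff _ _).2 hh) E.property)

/-- The structure morphism of `etSub`. -/
noncomputable abbrev etSubHom (E : EtOver X) {W : Over S} (h : W ⟶ E.obj.left) (hh : Etale h.left) :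
    etSub E h hh ⟶ E := EtOver.homMk h rfl

/-- Lifting of a geometric point along a morphism of the etale site to a prescribed point. -/
theorem exists_lift_hom (p : FieldPt X) (hp : IsSepClosed p.K) {E E' : EtOver X} (g : E' ⟶ E)
    (x : (FieldPt.liftsTo p).obj E) (v : ↥E'.obj.left.left)
    (hv : g.hom.left.left v = x.1.left (IsLocalRing.closedPoint p.K)) :
    ∃ y : (FieldPt.liftsTo p).obj E', (FieldPt.liftsTo p).map g y = x := by
  have hgi : Etale g.hom.left.left := EtOver.etale_left g
  obtain ⟨l, hl1, -⟩ := Scheme.exists_fac_of_etale_of_isSepClosed g.hom.left.left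
    x.1.left v (hv.trans (congrArg _ (Subsingleton.elim _ _)))
  let l' : p.pt ⟶ E'.obj.left := Over.homMk l (by
    rw [← Over.w g.hom.left, ← Category.assoc]
    exact (congrArg (· ≫ E.obj.left.hom) hl1).trans (Over.w x.1))
  have hl' : l' ≫ g.hom.left = x.1 := Over.OverMorphism.ext hl1
  refine ⟨⟨l', ?_⟩, Subtype.ext hl'⟩
  rw [← EtOver.w g, ← Category.assoc, ← Functor.map_comp, hl']
  exact x.2

/-- The image point of a lift in a chart lies over the class of the geometric point. -/
theorem ofPt_nbhd (p : FieldPt X) {E : EtOver X} (x : (FieldPt.liftsTo p).obj E) (s : ↥(p.pt).left) :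
    Points.ofPt E.obj.hom (x.1.left s) = Points.mk p := ofPt_lift p x.1 x.2 s

/-- The germ map of the etale local ring at a neighbourhood. -/
noncomputable def og (p : FieldPt X) (E : EtOver X) (x : (FieldPt.liftsTo p).obj E) :
    Γ(E.obj.left.left, ⊤) →+* ↥(OEtStalk p) :=
  (stalkEtι p (OEt X) ⟨E, x⟩).hom.comp (ULift.ringEquiv.symm : _ ≃+* ULift.{u + 1} Γ(E.obj.left.left, ⊤)).toRingHom

theorem preservesFiltered_forget_commRing :
    PreservesFilteredColimitsOfSize.{u, u} (forget CommRingCat.{u + 1}) :=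
  preservesFilteredColimitsOfSize_shrink.{u, u + 1, u, u + 1} _

theorem hasColimits_commRing : HasColimitsOfSize.{u, u} CommRingCat.{u + 1} :=
  hasColimitsOfSizeShrink.{u, u, u + 1, u + 1} _

section

variable (hX : IsAlgSpace X) (p : FieldPt X) (hp : IsSepClosed p.K)

include hX hp in
theorem exists_og (f : ↥(OEtStalk p)) :
    ∃ (E : EtOver X) (x : (FieldPt.liftsTo p).obj E) (s : Γ(E.obj.left.left, ⊤)), og p E x s = f := by
  have := preservesFiltered_forget_commRing.{u}
  have := hasColimits_commRing.{u}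
  obtain ⟨E, x, s, hs⟩ := (ptEt p hX).toPresheafFiber_jointly_surjective (P := (OEt X).obj) f
  exact ⟨E, x, s.down, hs⟩

theorem og_map {E E' : EtOver X} (g : E' ⟶ E) (y : (FieldPt.liftsTo p).obj E')
    (x : (FieldPt.liftsTo p).obj E) (h : (FieldPt.liftsTo p).map g y = x) (s : Γ(E.obj.left.left, ⊤)) :
    og p E' y (g.hom.left.left.appTop.hom s) = og p E x s := by
  subst h
  have h := congrArg (fun k => k.hom (ULift.up s)) (colimit.w (stalkEtDiagram p (OEt X))
    (CategoryOfElements.homMk (⟨E', y⟩ : EtNbhd p) ⟨E, (FieldPt.liftsTo p).map g y⟩ g rfl).op)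
  exact h

include hX hp in
theorem og_eq_iff (E : EtOver X) (x : (FieldPt.liftsTo p).obj E) (s t : Γ(E.obj.left.left, ⊤)) :
    og p E x s = og p E x t ↔ ∃ (E' : EtOver X) (g : E' ⟶ E) (y : (FieldPt.liftsTo p).obj E'),
      (FieldPt.liftsTo p).map g y = x ∧ g.hom.left.left.appTop.hom s = g.hom.left.left.appTop.hom t := by
  have := preservesFiltered_forget_commRing.{u}
  have := hasColimits_commRing.{u}
  constructor
  · intro h
    obtain ⟨E', g, y, hy, hg⟩ := ((ptEt p hX).toPresheafFiber_eq_iff' (P := (OEt X).obj) E x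
      (ULift.up s) (ULift.up t)).1 h
    exact ⟨E', g, y, hy, congrArg ULift.down hg⟩
  · rintro ⟨E', g, y, hy, hg⟩
    rw [← og_map p g y x hy, ← og_map p g y x hy, hg]

include hX hp in
theorem og_eq_zero_iff (E : EtOver X) (x : (FieldPt.liftsTo p).obj E) (s : Γ(E.obj.left.left, ⊤)) :
    og p E x s = 0 ↔ ∃ (E' : EtOver X) (g : E' ⟶ E) (y : (FieldPt.liftsTo p).obj E'),
      (FieldPt.liftsTo p).map g y = x ∧ g.hom.left.left.appTop.hom s = 0 := by
  rw [← map_zero (og p E x), og_eq_iff hX p hp]
  simp only [map_zero]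

include hX hp in
/-- Two elements of the etale local ring are germs on a common neighbourhood. -/
theorem exists_og₂ (f g : ↥(OEtStalk p)) :
    ∃ (E : EtOver X) (x : (FieldPt.liftsTo p).obj E) (s t : Γ(E.obj.left.left, ⊤)),
      og p E x s = f ∧ og p E x t = g := by
  obtain ⟨E, x, s, rfl⟩ := exists_og hX p hp f
  obtain ⟨E', x', t, rfl⟩ := exists_og hX p hp g
  obtain ⟨⟨M, m⟩, α, β, -⟩ := exists_nbhd_prod p ⟨E, x⟩ ⟨E', x'⟩
  exact ⟨M, m, _, _, og_map p α.1 m x α.2 s, og_map p β.1 m x' β.2 t⟩

/-- A section whose germ at the image point of the neighbourhood vanishes has germ zero. -/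
theorem og_eq_zero_of_germ (hp : IsSepClosed p.K) (E : EtOver X) (x : (FieldPt.liftsTo p).obj E)
    (s : Γ(E.obj.left.left, ⊤))
    (h : E.obj.left.left.presheaf.germ ⊤ (x.1.left (IsLocalRing.closedPoint p.K)) trivial s = 0) :
    og p E x s = 0 := by
  obtain ⟨W, hW, i, j, hW'⟩ : ∃ (W : E.obj.left.left.Opens)
      (_ : x.1.left (IsLocalRing.closedPoint p.K) ∈ W) (i j : W ⟶ ⊤),
      E.obj.left.left.presheaf.map i.op s = E.obj.left.left.presheaf.map j.op 0 :=
    TopCat.Presheaf.germ_eq E.obj.left.left.presheaf (U := ⊤) (V := ⊤)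
      (x.1.left (IsLocalRing.closedPoint p.K)) trivial trivial s 0 (h.trans (map_zero _).symm)
  let f : Over.mk (W.ι ≫ E.obj.left.hom) ⟶ E.obj.left := Over.homMk W.ι
  have hf : Etale f.left := inferInstanceAs (Etale W.ι)
  obtain ⟨y, hy⟩ := exists_lift_hom p hp (etSubHom E f hf) x ⟨_, hW⟩ rfl
  rw [← og_map p (etSubHom E f hf) y x hy]
  have h1 : (etSubHom E f hf).hom.left.left.appTop.hom s = 0 := by
    have h2 : E.obj.left.left.presheaf.map (homOfLE (le_top : W ≤ ⊤)).op s = 0 := by
      rw [map_zero] at hW'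
      exact hW'
    change (W.ι.appTop).hom s = 0
    have h3 : W.ι.appTop.hom s = E.obj.left.left.presheaf.map
        (eqToHom (show W.ι ''ᵁ ⊤ = W by simp)).op
        (E.obj.left.left.presheaf.map (homOfLE (le_top : W ≤ ⊤)).op s) := by
      rw [← CommRingCat.comp_apply, ← Functor.map_comp]
      rfl
    rw [h3, h2, map_zero]
  rw [h1, map_zero]

end

end K611
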