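import Mathlib.AlgebraicGeometry.Limits
import Mathlib.AlgebraicGeometry.Morphisms.Etale
import Groth.Agent.AlgSp.K611.Germ

/-!
# Atlases which are disjoint unions of affine schemes over affine opens of the base
-/

set_option autoImplicit false
universe v u w
open CategoryTheory CategoryTheory.Limits AlgebraicGeometry Opposite Topology TopologicalSpace
open AlgSp

set_option backward.isDefEq.respectTransparency false

namespace K611

variable {S : Scheme.{u}} {X : Sp S}

/-- Affine neighbourhoods mapping into an affine open of the base. -/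
theorem exists_affine_over {U : Scheme.{u}} (f : U ⟶ S) (u : ↥U) :
    ∃ V : U.Opens, IsAffineOpen V ∧ u ∈ V ∧ ∃ W : S.Opens, IsAffineOpen W ∧ ∀ v ∈ V, f v ∈ W := by
  obtain ⟨W, hW, hu, -⟩ := exists_isAffineOpen_mem_and_subset (x := f u) (U := ⊤) trivial
  obtain ⟨V, hV, hu', hV'⟩ := exists_isAffineOpen_mem_and_subset (x := u) (U := f ⁻¹ᵁ W) hu
  exact ⟨V, hV, hu', W, hW, fun v hv => hV' hv⟩

theorem etale_sigmaDesc {ι : Type u} (V : ι → Scheme.{u}) {U : Scheme.{u}} (f : ∀ i, V i ⟶ U)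
    (hf : ∀ i, Etale (f i)) : Etale (Sigma.desc f) := by
  refine (IsZariskiLocalAtSource.iff_of_openCover (P := @Etale) (sigmaOpenCover V)).2 fun i => ?_
  have h : Sigma.ι V i ≫ Sigma.desc f = f i := Sigma.ι_desc _ _
  exact h ▸ hf i

theorem surjective_sigmaDesc {ι : Type u} (V : ι → Scheme.{u}) {U : Scheme.{u}} (f : ∀ i, V i ⟶ U)
    (hf : ∀ u : ↥U, ∃ i, u ∈ Set.range (f i)) : Surjective (Sigma.desc f) := by
  refine ⟨fun u => ?_⟩
  obtain ⟨i, v, rfl⟩ := hf u
  refine ⟨Sigma.ι V i v, ?_⟩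
  rw [← Scheme.Hom.comp_apply, Sigma.ι_desc]

end K611
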