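import Mathlib.CategoryTheory.Sites.Subsheaf
import Mathlib.CategoryTheory.Subfunctor.Image

/-!
# The legs of a colimit of sheaves of sets are jointly locally surjective
-/

set_option autoImplicit false
universe v v' u u' w
open CategoryTheory CategoryTheory.Limits Opposite

namespace K611

variable {C : Type u} [Category.{v} C] {J : GrothendieckTopology C} {D : Type u'} [Category.{v'} D]

/-- Every section of a colimit of sheaves of sets comes locally from a term. -/
theorem exists_local_of_isColimit {K : D ⥤ Sheaf J (Type w)} {c : Cocone K} (hc : IsColimit c) {T : C}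
    (s : c.pt.obj.obj (op T)) :
    ∃ R ∈ J T, ∀ ⦃Y : C⦄ (f : Y ⟶ T), R f → ∃ (d : D) (x : (K.obj d).obj.obj (op Y)),
      (c.ι.app d).hom.app (op Y) x = c.pt.obj.map f.op s := by
  let G : Subfunctor c.pt.obj :=
    { obj := fun U => {t | ∃ (d : D) (x : (K.obj d).obj.obj U), (c.ι.app d).hom.app U x = t}
      map := by
        rintro U V i _ ⟨d, x, rfl⟩
        exact ⟨d, (K.obj d).obj.map i x, NatTrans.naturality_apply (c.ι.app d).hom i x⟩ }
  have hG : Presheaf.IsSheaf J (G.sheafify J).toFunctor :=
    (isSheaf_iff_isSheaf_of_type _ _).2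
      (G.sheafify_isSheaf ((isSheaf_iff_isSheaf_of_type _ _).1 c.pt.property))
  let G' : Sheaf J (Type w) := ⟨(G.sheafify J).toFunctor, hG⟩
  let i : G' ⟶ c.pt := ⟨(G.sheafify J).ι⟩
  have hd : ∀ d, Subfunctor.range (c.ι.app d).hom ≤ G.sheafify J := fun d => by
    refine le_trans ?_ (G.le_sheafify J)
    rintro U _ ⟨x, rfl⟩
    exact ⟨d, x, rfl⟩
  let l : ∀ d, K.obj d ⟶ G' := fun d => ⟨Subfunctor.lift (c.ι.app d).hom (hd d)⟩
  have hl : ∀ d, l d ≫ i = c.ι.app d := fun d => by ext : 1; rfl
  have : Mono i := by
    have h1 : Mono i.hom := inferInstanceAs (Mono (G.sheafify J).ι)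
    exact (sheafToPresheaf J (Type w)).mono_of_mono_map h1
  let c' : Cocone K :=
    { pt := G'
      ι := { app := l
             naturality := fun d d' f => by
              rw [← cancel_mono i, Category.assoc, hl, c.w]
              change _ = (l d ≫ 𝟙 _) ≫ i
              rw [Category.comp_id, hl] } }
  have hs : hc.desc c' ≫ i = 𝟙 _ := by
    refine hc.hom_ext fun d => ?_
    rw [← Category.assoc, hc.fac, Category.comp_id]
    exact hl d
  have h1 : s ∈ (G.sheafify J).obj (op T) := by
    have h2 : i.hom.app (op T) ((hc.desc c').hom.app (op T) s) = s := by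
      have := congrArg (fun k => k.hom.app (op T) s) hs
      exact this
    rw [← h2]
    exact ((hc.desc c').hom.app (op T) s).2
  exact ⟨G.sieveOfSection s, h1, fun Y f hf => hf⟩

end K611
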