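import Groth.Agent.AlgSp.K611.Colim
import Groth.Agent.AlgSp.K629.Fppf
import Groth.Agent.AlgSp.K611.Pt

/-!
# Points of a colimit of fppf sheaves
-/

set_option autoImplicit false
universe v' u u'
open CategoryTheory CategoryTheory.Limits AlgebraicGeometry Opposite
open AlgSp

set_option backward.isDefEq.respectTransparency false

namespace K611

variable {S : Scheme.{u}} {D : Type u'} [Category.{v'} D]

/-- Every point of a colimit of fppf sheaves comes from a term. -/
theorem exists_point_of_isColimit {K : D ⥤ Sp S} {c : Cocone K} (hc : IsColimit c) (x : Points c.pt) :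
    ∃ (d : D) (y : Points (K.obj d)), Points.map (c.ι.app d) y = x := by
  obtain ⟨p, rfl⟩ := Quotient.exists_rep x
  obtain ⟨R, hR, h⟩ := exists_local_of_isColimit hc ((J S).uliftYonedaEquiv p.toHom)
  obtain ⟨ι, T, t, h1, -, h3⟩ := K629.Fppf.exists_cover hR
  obtain ⟨i, v, -⟩ := h3 (IsLocalRing.closedPoint p.K)
  obtain ⟨d, y, hy⟩ := h (t i) (h1 i)
  let g : (yon S).obj (T i) ⟶ K.obj d := (J S).uliftYonedaEquiv.symm y
  have hg : g ≫ c.ι.app d = (yon S).map (t i) ≫ p.toHom := by
    apply (J S).uliftYonedaEquiv.injective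
    rw [GrothendieckTopology.uliftYonedaEquiv_comp, Equiv.apply_symm_apply]
    refine hy.trans ?_
    rw [GrothendieckTopology.map_uliftYonedaEquiv]
    rfl
  refine ⟨d, Points.ofPt g v, ?_⟩
  rw [Points.map_ofPt, hg, ofPt_yon_comp]
  exact Points.ofPt_toHom p _

end K611
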