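import Mathlib.AlgebraicGeometry.Sites.EtalePoint
import Mathlib.AlgebraicGeometry.Morphisms.FlatMono
import Mathlib.AlgebraicGeometry.Morphisms.Etale

/-!
# Lifts of geometric points through etale morphisms are unchanged under extension of the field
-/

set_option autoImplicit false
universe u
open CategoryTheory CategoryTheory.Limits AlgebraicGeometry

namespace K611

variable {Ω Ω' : Type u} [Field Ω] [Field Ω'] (φ : Spec (CommRingCat.of Ω') ⟶ Spec (CommRingCat.of Ω))

theorem epi_of_field : Epi φ := by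
  have h1 : Flat φ := inferInstance
  have h2 : Surjective φ := ⟨fun y => ⟨IsLocalRing.closedPoint Ω', Subsingleton.elim (α := PrimeSpectrum Ω) _ _⟩⟩
  exact Flat.epi_of_flat_of_surjective φ

/-- A section of an etale morphism is an open immersion. -/
theorem isOpenImmersion_of_section {W T : Scheme.{u}} (h : W ⟶ T) [Etale h] (σ : T ⟶ W) (hσ : σ ≫ h = 𝟙 T) :
    IsOpenImmersion σ := by
  have h1 : Etale (σ ≫ h) := by rw [hσ]; infer_instance
  have h2 : Etale σ := Etale.of_comp σ h
  have h3 : Mono σ := mono_of_mono_fac hσ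
  exact IsOpenImmersion.of_flat_of_mono σ

variable [IsSepClosed Ω]

theorem exists_lift_ext {V U : Scheme.{u}} (h : V ⟶ U) [Etale h] (ξ : Spec (CommRingCat.of Ω) ⟶ U)
    (τ' : Spec (CommRingCat.of Ω') ⟶ V) (hτ : τ' ≫ h = φ ≫ ξ) :
    ∃ τ : Spec (CommRingCat.of Ω) ⟶ V, τ ≫ h = ξ ∧ φ ≫ τ = τ' := by
  let g := pullback.snd h ξ
  let m : Spec (CommRingCat.of Ω') ⟶ pullback h ξ := pullback.lift τ' φ hτ
  have hm1 : m ≫ pullback.fst h ξ = τ' := pullback.lift_fst _ _ _
  have hm2 : m ≫ g = φ := pullback.lift_snd _ _ _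
  obtain ⟨σ, hσ, hσ'⟩ := Scheme.exists_fac_of_etale_of_isSepClosed g (𝟙 _)
    (m (IsLocalRing.closedPoint Ω')) (Subsingleton.elim (α := PrimeSpectrum Ω) _ _)
  have h1 := isOpenImmersion_of_section g σ hσ
  have h2 : Set.range m ⊆ Set.range σ := by
    rintro _ ⟨a, rfl⟩
    have : a = IsLocalRing.closedPoint Ω' := Subsingleton.elim (α := PrimeSpectrum Ω') _ _
    exact ⟨_, hσ'.trans (by rw [this])⟩
  have h3 := IsOpenImmersion.lift_fac σ m h2
  have h4 : IsOpenImmersion.lift σ m h2 = φ := by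
    have h5 := congrArg (· ≫ g) h3
    rw [Category.assoc, hσ, hm2] at h5
    exact (Category.comp_id _).symm.trans h5
  rw [h4] at h3
  refine ⟨σ ≫ pullback.fst h ξ, ?_, ?_⟩
  · rw [Category.assoc, pullback.condition, ← Category.assoc]
    exact (congrArg (· ≫ ξ) hσ).trans (Category.id_comp _)
  · rw [← Category.assoc, h3, hm1]

end K611
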