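import Groth.Agent.AlgSp.K611.Pt
import Groth.Agent.AlgSp.K610.Sub

/-!
# The subsheaf of an algebraic space defined by an invariant subobject of a presentation
-/

set_option autoImplicit false
universe v u w
open CategoryTheory CategoryTheory.Limits AlgebraicGeometry Opposite Topology TopologicalSpace
open AlgSp

set_option backward.isDefEq.respectTransparency false

namespace K611

variable {S : Scheme.{u}}

/-- Factorization through a monomorphism of schemes is an fppf local question. -/
theorem exists_factor_of_local {V U Z : Over S} (i : Z ⟶ U) [Mono i] (g : V ⟶ U)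
    (h : ∀ y : ↥V.left, ∃ (Y : Over S) (φ : Y ⟶ V), Flat φ.left ∧ LocallyOfFinitePresentation φ.left ∧
      y ∈ Set.range φ.left ∧ ∃ z : Y ⟶ Z, z ≫ i = φ ≫ g) : ∃ z : V ⟶ Z, z ≫ i = g := by
  choose Y φ h1 h2 h3 z hz using h
  have h3' : ∀ t : ↥V.left, ∃ (y : ↥V.left) (t' : ↥(Y y).left), (φ y).left t' = t := fun t => ⟨t, h3 t⟩
  have : Mono ((yon S).map i) := inferInstance
  obtain ⟨k, hk, -⟩ := K613.Basic.glueFam Y φ h1 h2 h3' (fun y => (yon S).map (z y))
    (fun y y' R a b hab => by
      rw [← cancel_mono ((yon S).map i), Category.assoc, Category.assoc, ← Functor.map_comp,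
        ← Functor.map_comp, ← Functor.map_comp, ← Functor.map_comp, hz, hz, ← Category.assoc,
        ← Category.assoc, hab])
  obtain ⟨k, rfl⟩ := (yon S).map_surjective k
  refine ⟨k, (yon S).map_injective ?_⟩
  obtain ⟨l, -, hl⟩ := K613.Basic.glueFam Y φ h1 h2 h3' (fun y => (yon S).map (φ y ≫ g))
    (fun y y' R a b hab => by
      rw [← Functor.map_comp, ← Functor.map_comp, ← Category.assoc, ← Category.assoc, hab])
  have e1 := hl ((yon S).map (k ≫ i)) (fun y => by
    rw [Functor.map_comp, ← Category.assoc]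
    have := hk y
    rw [this, ← Functor.map_comp, hz])
  have e2 := hl ((yon S).map g) (fun y => by rw [← Functor.map_comp])
  rw [e1, e2]

/-- The condition on `g : h_T ⟶ X` that every lift to `U` of a restriction of `g` factors through `Z ⟶ U`. -/
noncomputable def invPred {X : Sp S} {U Z : Over S} (p : (yon S).obj U ⟶ X) (i : Z ⟶ U) [Mono i] :
    K610.Sub.LocPred X where
  pr T g := ∀ (V : Over S) (a : V ⟶ T) (b : V ⟶ U), (yon S).map a ≫ g = (yon S).map b ≫ p →
    ∃ z : V ⟶ Z, z ≫ i = b
  map {T T'} φ g h V a b hab := h V (a ≫ φ) b (by rw [Functor.map_comp, Category.assoc, hab])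
  loc {T} g h V a b hab := by
    refine exists_factor_of_local i b fun y => ?_
    obtain ⟨Y, φ, h1, h2, ⟨t, ht⟩, h3⟩ := h (a.left y)
    have sq := IsPullback.of_hasPullback φ a
    have sq' := sq.map (Over.forget S)
    obtain ⟨w, -, hw⟩ := Scheme.exists_preimage_of_isPullback sq' t y ht
    refine ⟨pullback φ a, pullback.snd φ a, MorphismProperty.of_isPullback sq' h1,
      MorphismProperty.of_isPullback sq' h2, ⟨w, hw⟩, ?_⟩
    refine h3 _ (pullback.fst φ a) (pullback.snd φ a ≫ b) ?_
    rw [← Category.assoc, ← Functor.map_comp, pullback.condition, Functor.map_comp, Category.assoc, hab,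
      ← Category.assoc, ← Functor.map_comp]

/-- For a subobject of `U` invariant under the equivalence relation, the subsheaf pulls back to it. -/
theorem isPullback_invPred {X : Sp S} {R U Z : Over S} {s t : R ⟶ U} {p : (yon S).obj U ⟶ X}
    (sq : IsPullback ((yon S).map t) ((yon S).map s) p p) (i : Z ⟶ U) [Mono i]
    (hinv : ∀ (V : Over S) (r : V ⟶ R) (z : V ⟶ Z), z ≫ i = r ≫ s → ∃ z' : V ⟶ Z, z' ≫ i = r ≫ t) :
    ∃ q : (yon S).obj Z ⟶ (invPred p i).sub, IsPullback q ((yon S).map i) (invPred p i).ι p := by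
  refine (invPred p i).isPullback p i fun T g => ⟨fun h => ?_, ?_⟩
  · exact h T (𝟙 T) g (by rw [(yon S).map_id, Category.id_comp])
  · rintro ⟨z, rfl⟩ V a b hab
    rw [← Category.assoc, ← Functor.map_comp] at hab
    obtain ⟨r, hr⟩ := (yon S).map_surjective (sq.lift _ _ hab.symm)
    have h1 : r ≫ t = b := (yon S).map_injective (by rw [Functor.map_comp, hr]; exact sq.lift_fst _ _ _)
    have h2 : r ≫ s = a ≫ z ≫ i :=
      (yon S).map_injective (by rw [Functor.map_comp, hr]; exact sq.lift_snd _ _ _)
    obtain ⟨z', hz'⟩ := hinv V r (a ≫ z) (by rw [h2, Category.assoc])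
    exact ⟨z', hz'.trans h1⟩

end K611
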