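import Mathlib.Algebra.Category.Ring.FilteredColimits
import Mathlib.CategoryTheory.Limits.Preserves.Ulift
import Groth.Prelude.Def_EtBaseX
import Groth.Agent.AlgSp.K611.EtPoint

/-!
# The etale local ring of an algebraic space is the etale local ring of a chart

* `uliftCR` : the universe lift on commutative rings; it preserves filtered colimits;
* `OEtStalkIso` : `OEtStalk p ≅ uliftCR (EtBase.etaleLocalRing ξ)` for a lift `ξ` of `p` to a chart;
* `OEtStalkEquiv` : the same as a ring isomorphism.
-/

set_option autoImplicit false
universe v u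
open CategoryTheory CategoryTheory.Limits AlgebraicGeometry Opposite Topology TopologicalSpace
open AlgSp

set_option backward.isDefEq.respectTransparency false

namespace K611

/-- The universe lift on commutative rings. -/
def uliftCR : CommRingCat.{u} ⥤ CommRingCat.{u + 1} where
  obj R := CommRingCat.of (ULift.{u + 1} R)
  map f := CommRingCat.ofHom
    (ULift.ringEquiv.symm.toRingHom.comp (f.hom.comp ULift.ringEquiv.toRingHom))
  map_id R := by ext x; dsimp; simp
  map_comp f g := by ext x; dsimp; simp

/-- The universe lift on rings lies over the universe lift on types. -/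
def uliftCRForget : uliftCR.{u} ⋙ forget CommRingCat.{u + 1} ≅
    forget CommRingCat.{u} ⋙ uliftFunctor.{u + 1} :=
  NatIso.ofComponents (fun _ => Iso.refl _) (by intros; rfl)

theorem preservesColimitsOfShape_uliftCR (J : Type (u + 1)) [Category.{u} J] [IsFiltered J]
    [FinallySmall.{u} J] : PreservesColimitsOfShape J uliftCR.{u} := by
  have h1 : PreservesFilteredColimitsOfSize.{u, u} (forget CommRingCat.{u + 1}) :=
    preservesFilteredColimitsOfSize_shrink.{u, u + 1, u, u + 1} _
  have h2 : PreservesColimitsOfShape J (forget CommRingCat.{u + 1}) :=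
    Functor.Final.preservesColimitsOfShape_of_final (FinallySmall.fromFilteredFinalModel.{u} J) _
  have h3 : PreservesColimitsOfShape J (forget CommRingCat.{u}) :=
    Functor.Final.preservesColimitsOfShape_of_final (FinallySmall.fromFilteredFinalModel.{u} J) _
  have h4 : PreservesColimitsOfShape J (uliftCR.{u} ⋙ forget CommRingCat.{u + 1}) :=
    preservesColimitsOfShape_of_natIso uliftCRForget.symm
  have h5 : HasColimitsOfSize.{u, u + 1} CommRingCat.{u + 1} :=
    hasColimitsOfSizeShrink.{u, u + 1, u + 1, u + 1} _
  have h6 : ReflectsColimitsOfShape J (forget CommRingCat.{u + 1}) :=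
    reflectsColimitsOfShape_of_reflectsIsomorphisms
  exact preservesColimitsOfShape_of_reflects_of_preserves uliftCR (forget CommRingCat.{u + 1})

variable {S : Scheme.{u}} {X : Sp S} (p : FieldPt X) [hp : IsSepClosed p.K]
  {U : Over S} (a : (yon S).obj U ⟶ X) (ha : RepWith @Etale a) (l : p.pt ⟶ U)
  (hl : (yon S).map l ≫ a = p.toHom)

/-- The diagram of functions on the neighbourhoods coming from a chart. -/
noncomputable def chartDiagIso : (chartNbhd p a ha l hl).op ⋙ stalkEtDiagram p (OEt X) ≅
    ((CategoryOfElements.π (Scheme.pointSmallEtale (gpt p l)).fiber).op ⋙ EtBase.OO U.left) ⋙ uliftCR :=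
  NatIso.ofComponents (fun _ => Iso.refl _) (by intros; rfl)

/-- The etale local ring of `X` at `p` is the lift of the etale local ring of a chart. -/
noncomputable def OEtStalkIso :
    OEtStalk p ≅ uliftCR.obj (EtBase.etaleLocalRing (gpt p l)) :=
  have := preservesColimitsOfShape_uliftCR.{u} (Scheme.pointSmallEtale (gpt p l)).fiber.Elementsᵒᵖ
  (Functor.Final.colimitIso (chartNbhd p a ha l hl).op (stalkEtDiagram p (OEt X))).symm ≪≫
    HasColimit.isoOfNatIso (chartDiagIso p a ha l hl) ≪≫
    (preservesColimitIso uliftCR _).symm

/-- Ring isomorphism form. -/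
noncomputable def OEtStalkEquiv :
    ↥(OEtStalk p) ≃+* ↥(EtBase.etaleLocalRing (gpt p l)) :=
  (OEtStalkIso p a ha l hl).commRingCatIsoToRingEquiv.trans ULift.ringEquiv

end K611
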