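import Mathlib.CategoryTheory.Limits.Constructions.Over.Connected
import Mathlib.CategoryTheory.Sites.CoverLifting
import Groth.Agent.AlgSp.K611.Germ

/-!
# Composition with an etale morphism is continuous and cocontinuous on small etale sites
-/

set_option autoImplicit false
universe v u w
open CategoryTheory CategoryTheory.Limits AlgebraicGeometry Opposite Topology TopologicalSpace
open AlgSp

set_option backward.isDefEq.respectTransparency false

namespace K611

variable {S : Scheme.{u}} {X Y : Sp S}

theorem reflectsPullbacks_forget (X : Sp S) : ReflectsLimitsOfShape WalkingCospan (EtOver.forget X) := by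
  have h1 : ReflectsLimitsOfShape WalkingCospan (CostructuredArrow.proj (yon S) X) := inferInstance
  have h2 : ReflectsLimitsOfShape WalkingCospan
    (ObjectProperty.ι (fun E : CostructuredArrow (yon S) X => RepWith @Etale E.hom)) := inferInstance
  exact Limits.comp_reflectsLimitsOfShape _ _

theorem preservesPullbacks_postcomp (f : X ⟶ Y) (hf : IsEtaleMor f) :
    PreservesLimitsOfShape WalkingCospan (EtOver.postcomp f hf) := by
  have h1 := reflectsPullbacks_forget Y
  have h2 : PreservesLimitsOfShape WalkingCospan (EtOver.postcomp f hf ⋙ EtOver.forget Y) :=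
    inferInstanceAs (PreservesLimitsOfShape WalkingCospan (EtOver.forget X))
  exact preservesLimitsOfShape_of_reflects_of_preserves _ (EtOver.forget Y)

theorem isContinuous_postcomp (f : X ⟶ Y) (hf : IsEtaleMor f) :
    (EtOver.postcomp f hf).IsContinuous (etTop X) (etTop Y) := by
  have := preservesPullbacks_postcomp f hf
  exact Functor.isContinuous_toGrothendieck_of_pullbacksPreservedBy (EtOver.postcomp f hf) (etPre X)
    (etPre Y) (Precoverage.comap_comp (EtOver.postcomp f hf) (EtOver.toScheme Y)
      Scheme.etalePrecoverage).le

theorem isCocontinuous_postcomp (f : X ⟶ Y) (hf : IsEtaleMor f) :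
    (EtOver.postcomp f hf).IsCocontinuous (etTop X) (etTop Y) where
  cover_lift {E R} hR := by
    obtain ⟨R', hR', hle⟩ := Precoverage.mem_toGrothendieck_iff_of_isStableUnderComposition.1 hR
    obtain ⟨ι, Y, g, rfl⟩ := R'.exists_eq_ofArrows
    have hg : ∀ i, Etale (g i).hom.left.left := fun i => EtOver.etale_left (g i)
    refine (etTop X).superset_covering ?_ (ofArrows_mem_etTop
      (fun i => etSub E (g i).hom.left (hg i)) (fun i => etSubHom E (g i).hom.left (hg i))
      ((ofArrows_mem_etPre_iff Y g).1 hR'))
    rw [Sieve.generate_le_iff, Presieve.ofArrows_le_iff]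
    intro i
    have h1 : R (g i) := hle _ _ (Presieve.ofArrows.mk i)
    let k : (EtOver.postcomp f hf).obj (etSub E (g i).hom.left (hg i)) ⟶ Y i :=
      EtOver.homMk (𝟙 _) (by
        have h2 := EtOver.w (g i)
        rw [(yon S).map_id, Category.id_comp, ← h2]
        exact (Category.assoc _ _ _).symm)
    have h3 : (EtOver.postcomp f hf).map (etSubHom E (g i).hom.left (hg i)) = k ≫ g i :=
      EtOver.hom_ext _ _ (Category.id_comp _).symm
    change R ((EtOver.postcomp f hf).map (etSubHom E (g i).hom.left (hg i)))
    rw [h3]
    exact R.downward_closed h1 k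

end K611
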