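import Groth.Agent.AlgSp.K611.SHStalk
import Groth.Agent.S2747

/-!
# Reducedness of the etale local rings of an algebraic space
-/

set_option autoImplicit false
universe v u
open CategoryTheory CategoryTheory.Limits AlgebraicGeometry Opposite Topology TopologicalSpace
open AlgSp

namespace K611

variable {S : Scheme.{u}} {X : Sp S}

/-- Reducedness of the etale local ring can be read off on any etale chart. -/
theorem reduced_chart_iff (p : FieldPt X) (hp : IsSepClosed p.K) {U : Over S} (a : (yon S).obj U ⟶ X)
    (ha : RepWith @Etale a) (u : ↥U.left) (h : Points.ofPt a u = Points.mk p) :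
    _root_.IsReduced ↥(U.left.presheaf.stalk u) ↔ _root_.IsReduced ↥(OEtStalk p) := by
  obtain ⟨A, _, _, _, _, _, ⟨e⟩⟩ := exists_strictHens p hp a ha u h
  rw [← Groth.Agent.S2747.result ↥(U.left.presheaf.stalk u) A]
  exact ⟨fun h => isReduced_of_injective e.toRingHom e.injective,
    fun h => isReduced_of_injective e.symm.toRingHom e.symm.injective⟩

/-- Reducedness of the local ring does not depend on the chart. -/
theorem reduced_stalk_of_hasAt {U : Over S} (a : (yon S).obj U ⟶ X) (ha : RepWith @Etale a) (u : ↥U.left)
    (h : HasAt (fun U u => _root_.IsReduced ↥(U.presheaf.stalk u)) X (Points.ofPt a u)) :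
    _root_.IsReduced ↥(U.left.presheaf.stalk u) := by
  obtain ⟨V, b, v, hb, hv, h'⟩ := h
  have hp := isSepClosed_of_isGeometric (isGeometric_geomPt (EtOver.mk a ha) u)
  have hm := mk_chartPt a ha u
  exact (reduced_chart_iff (chartPt a ha u) hp a ha u hm.symm).2
    ((reduced_chart_iff (chartPt a ha u) hp b hb v (hv.trans hm.symm)).1 h')

end K611
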