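import Groth.Agent.AlgSp.K611.SHStalk
import Groth.Agent.S0540
import Groth.Agent.S2743

/-!
# Regularity of the etale local rings of an algebraic space
-/

set_option autoImplicit false
universe v u
open CategoryTheory CategoryTheory.Limits AlgebraicGeometry Opposite Topology TopologicalSpace
open AlgSp

namespace K611

theorem strictHens_regular_iff (R A : Type u) [CommRing R] [IsLocalRing R] [CommRing A] [IsLocalRing A]
    [Algebra R A] [IsLocalHom (algebraMap R A)] [Hensel.IsStrictHenselization R A] :
    IsRegularLocalRing R ↔ IsRegularLocalRing A := by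
  constructor
  · intro h
    exact (Groth.Agent.S2743.result R A).2 h
  · intro h
    have : IsNoetherianRing R := (Groth.Agent.S0540.result R A).2 inferInstance
    exact (Groth.Agent.S2743.result R A).1 h

variable {S : Scheme.{u}} {X : Sp S}

/-- Regularity of the etale local ring can be read off on any etale chart. -/
theorem regular_chart_iff (p : FieldPt X) (hp : IsSepClosed p.K) {U : Over S} (a : (yon S).obj U ⟶ X)
    (ha : RepWith @Etale a) (u : ↥U.left) (h : Points.ofPt a u = Points.mk p) :
    IsRegularLocalRing ↥(U.left.presheaf.stalk u) ↔ IsRegularLocalRing ↥(OEtStalk p) := by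
  obtain ⟨A, _, _, _, _, _, ⟨e⟩⟩ := exists_strictHens p hp a ha u h
  rw [strictHens_regular_iff ↥(U.left.presheaf.stalk u) A]
  exact ⟨fun _ => IsRegularLocalRing.of_ringEquiv e.symm, fun _ => IsRegularLocalRing.of_ringEquiv e⟩

end K611
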