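import Groth.Agent.AlgSp.K611.OStalk
import Groth.Agent.AlgSp.K611.Conserv
import Groth.Agent.EtpbcB.OshHens
import Groth.Agent.EtpbcB.StrHensEquiv

/-!
# The etale local ring of an algebraic space at a geometric point is a strict henselization

* `exists_strictHens` : for an etale chart `(U, u)` through the image of the geometric point `p`, there is a
  strict henselization `A` of `O_{U,u}` with `OEtStalk p ≃+* A`;
* `exists_chart` : a chart through a point of an algebraic space;
* `hasAt_iff_of_forall` : reduction of `HasAt` statements to charts.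
-/

set_option autoImplicit false
universe v u
open CategoryTheory CategoryTheory.Limits AlgebraicGeometry Opposite Topology TopologicalSpace
open AlgSp

set_option backward.isDefEq.respectTransparency false

namespace K611

variable {S : Scheme.{u}} {X : Sp S}

/-- The etale local ring of `X` at `p` is a strict henselization of the local ring of every etale chart at a
point over the image of `p`. -/
theorem exists_strictHens (p : FieldPt X) (hp : IsSepClosed p.K) {U : Over S} (a : (yon S).obj U ⟶ X)
    (ha : RepWith @Etale a) (u : ↥U.left) (h : Points.ofPt a u = Points.mk p) :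
    ∃ (A : Type u) (_ : CommRing A) (_ : IsLocalRing A) (_ : Algebra ↥(U.left.presheaf.stalk u) A)
      (_ : IsLocalHom (algebraMap ↥(U.left.presheaf.stalk u) A))
      (_ : Hensel.IsStrictHenselization ↥(U.left.presheaf.stalk u) A),
      Nonempty (↥(OEtStalk p) ≃+* A) := by
  obtain ⟨l, hl, hlu⟩ := exists_lift ha p hp u h
  obtain ⟨h1, h2, h3, -⟩ := Groth.Agent.EtpbcB.OshHens.exists_isStrictHenselization (gpt p l) u
    ((congrArg _ (Subsingleton.elim _ _)).trans hlu)
  exact ⟨EtBase.etaleLocalRing (gpt p l), inferInstance, inferInstance, h1, h2, h3,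
    ⟨OEtStalkEquiv p a ha l hl⟩⟩

/-- Every point of an algebraic space is hit by an etale surjective chart. -/
theorem exists_chart (hX : IsAlgSpace X) (x : Points X) :
    ∃ (U : Over S) (a : (yon S).obj U ⟶ X) (u : ↥U.left), RepWith @Etale a ∧ Points.ofPt a u = x := by
  obtain ⟨U, a, ha, ha'⟩ := hX.atlas
  obtain ⟨u, hu⟩ := ofPt_surjective ha' x
  exact ⟨U, a, u, ha, hu⟩

theorem hasAt_iff_of_forall (hX : IsAlgSpace X) {Q : ∀ U : Scheme.{u}, ↥U → Prop} {T : Prop}
    (x : Points X) (h : ∀ (U : Over S) (a : (yon S).obj U ⟶ X) (u : ↥U.left), RepWith @Etale a →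
      Points.ofPt a u = x → (Q U.left u ↔ T)) : HasAt Q X x ↔ T := by
  constructor
  · rintro ⟨U, a, u, ha, hu, hQ⟩
    exact (h U a u ha hu).1 hQ
  · intro hT
    obtain ⟨U, a, u, ha, hu⟩ := exists_chart hX x
    exact ⟨U, a, u, ha, hu, (h U a u ha hu).2 hT⟩

/-- The geometric point of `X` through a point of a chart. -/
noncomputable abbrev chartPt {U : Over S} (a : (yon S).obj U ⟶ X) (ha : RepWith @Etale a) (u : ↥U.left) :
    FieldPt X := geomPt (EtOver.mk a ha) u

theorem mk_chartPt {U : Over S} (a : (yon S).obj U ⟶ X) (ha : RepWith @Etale a) (u : ↥U.left) :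
    Points.mk (chartPt a ha u) = Points.ofPt a u :=
  (ofPt_lift (a := a) (chartPt a ha u) (geomPtLift (EtOver.mk a ha) u)
    (geomPtLift_w (EtOver.mk a ha) u) (IsLocalRing.closedPoint _)).symm.trans
    (congrArg (Points.ofPt a) (geomPtLift_apply (EtOver.mk a ha) u (IsLocalRing.closedPoint _)))

/-- Every point of an algebraic space is the class of a geometric point. -/
theorem exists_geometric (hX : IsAlgSpace X) (x : Points X) :
    ∃ p : FieldPt X, p.IsGeometric ∧ Points.mk p = x := by
  obtain ⟨U, a, u, ha, rfl⟩ := exists_chart hX x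
  exact ⟨chartPt a ha u, isGeometric_geomPt _ _, mk_chartPt a ha u⟩

theorem isSepClosed_of_isGeometric {p : FieldPt X} (hp : p.IsGeometric) : IsSepClosed p.K := by
  have : IsAlgClosed p.K := hp
  infer_instance

/-- The etale local ring at a geometric point of an algebraic space is strictly henselian. -/
theorem isStrictlyHenselian_OEtStalk (hX : IsAlgSpace X) (p : FieldPt X) (hp : IsSepClosed p.K) :
    EtCoh.IsStrictlyHenselianLocalRing ↥(OEtStalk p) := by
  obtain ⟨U, a, u, ha, hu⟩ := exists_chart hX (Points.mk p)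
  obtain ⟨A, _, _, _, _, hA, ⟨e⟩⟩ := exists_strictHens p hp a ha u hu
  have h1 : HenselianLocalRing A := hA.henselian
  have h2 : IsSepClosed (IsLocalRing.ResidueField A) := hA.isSepClosure.sep_closed
  have h3 : HenselianLocalRing ↥(OEtStalk p) :=
    Groth.Agent.EtpbcB.StrHensEquiv.henselianLocalRing_of_ringEquiv e.symm
  exact ⟨h3, Groth.Agent.EtpbcB.StrHensEquiv.isSepClosed_of_ringEquiv
    (IsLocalRing.ResidueField.mapEquiv e.symm)⟩

theorem isLocalRing_OEtStalk (hX : IsAlgSpace X) (p : FieldPt X) (hp : IsSepClosed p.K) :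
    IsLocalRing ↥(OEtStalk p) := by
  obtain ⟨h, -⟩ := isStrictlyHenselian_OEtStalk hX p hp
  exact h.toIsLocalRing

end K611
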