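import Mathlib.CategoryTheory.Sites.Point.Over
import Mathlib.CategoryTheory.Sites.Point.Comap
import Mathlib.CategoryTheory.Sites.Point.Category
import Groth.Agent.AlgSp.K611.Germ

/-!
# The small etale site of a chart as a slice of the small etale site of an algebraic space
-/

set_option autoImplicit false
universe v v' u u' w
open CategoryTheory CategoryTheory.Limits AlgebraicGeometry Opposite Topology TopologicalSpace
open AlgSp

set_option backward.isDefEq.respectTransparency false

namespace K611

variable {S : Scheme.{u}} {X : Sp S} (E : EtOver X)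

/-- The functor from the small etale site of a chart to the small etale site of the space. -/
noncomputable abbrev chF : E.obj.left.left.Etale ⥤ EtOver X := EtOver.ofChart E.obj.hom E.property

/-- The structure morphism to the chart. -/
noncomputable def chHom (V : E.obj.left.left.Etale) : (chF E).obj V ⟶ E :=
  EtOver.homMk (EtOver.homOfEtale V) rfl

theorem chF_map_chHom {V W : E.obj.left.left.Etale} (f : V ⟶ W) :
    (chF E).map f ≫ chHom E W = chHom E V := by
  apply EtOver.hom_ext
  apply Over.OverMorphism.ext
  exact MorphismProperty.Over.w f

/-- The small etale site of a chart as a slice of the small etale site of the space. -/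
noncomputable def toOver : E.obj.left.left.Etale ⥤ Over E where
  obj V := Over.mk (chHom E V)
  map f := Over.homMk ((chF E).map f) (chF_map_chHom E f)
  map_id V := by
    apply Over.OverMorphism.ext
    exact (chF E).map_id V
  map_comp f g := by
    apply Over.OverMorphism.ext
    exact (chF E).map_comp f g

theorem faithful_toOver : (toOver E).Faithful where
  map_injective {_ _ _ _} h := (chF E).map_injective (congrArg (fun k => k.left) h)

theorem full_toOver : (toOver E).Full where
  map_surjective {V W} g := by
    have h1 : g.left ≫ chHom E W = chHom E V := Over.w g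
    have h2 : g.left.hom.left.left ≫ W.hom = V.hom := congrArg (fun k => k.hom.left.left) h1
    refine ⟨MorphismProperty.Over.homMk g.left.hom.left.left h2, ?_⟩
    apply Over.OverMorphism.ext
    apply EtOver.hom_ext
    exact Over.OverMorphism.ext rfl

/-- The etale morphism of schemes underlying a morphism of the small etale site. -/
noncomputable abbrev etOf {E E' : EtOver X} (g : E' ⟶ E) : E.obj.left.left.Etale :=
  { toComma := Over.mk g.hom.left.left, prop := EtOver.etale_left g }

/-- A morphism to a chart is, up to isomorphism, an etale scheme over the chart. -/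
noncomputable def isoEtOf {E E' : EtOver X} (g : E' ⟶ E) : (chF E).obj (etOf g) ≅ E' :=
  (ObjectProperty.fullyFaithfulι _).preimageIso
    (CostructuredArrow.isoMk (Over.isoMk (Iso.refl E'.obj.left.left) (by
      change 𝟙 _ ≫ E'.obj.left.hom = g.hom.left.left ≫ E.obj.left.hom
      rw [Category.id_comp]; exact (Over.w g.hom.left).symm)) (by
      change (yon S).map _ ≫ E'.obj.hom = (yon S).map _ ≫ E.obj.hom
      rw [← EtOver.w g, ← Category.assoc, ← Functor.map_comp]
      congr 2))

theorem isoEtOf_hom_comp {E E' : EtOver X} (g : E' ⟶ E) : (isoEtOf g).hom ≫ g = chHom E (etOf g) := by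
  apply EtOver.hom_ext
  apply Over.OverMorphism.ext
  exact Category.id_comp _

theorem essSurj_toOver : (toOver E).EssSurj where
  mem_essImage Y := ⟨etOf Y.hom, ⟨Over.isoMk (isoEtOf Y.hom) (isoEtOf_hom_comp Y.hom)⟩⟩

theorem isEquivalence_toOver : (toOver E).IsEquivalence :=
  have := faithful_toOver E
  have := full_toOver E
  have := essSurj_toOver E
  { }

theorem coverPreserving_toOver :
    CoverPreserving E.obj.left.left.smallEtaleTopology ((etTop X).over E) (toOver E) where
  cover_preserve {V R} hR := by
    obtain ⟨ι, Y, f, rfl⟩ := R.exists_eq_ofArrows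
    rw [GrothendieckTopology.mem_over_iff, Sieve.functorPushforward_ofArrows, Sieve.overEquiv_ofArrows]
    exact EtOver.ofChart_sieve_mem E.obj.hom E.property Y f hR

section small

variable {C : Type u} [Category.{w} C] {D : Type u'} [Category.{w} D]

/-- The elements of the restriction of a functor along an equivalence are initially small when those of the
functor are. -/
theorem initiallySmall_elements_comp (G : C ⥤ D) [G.IsEquivalence] (F : D ⥤ Type w)
    [InitiallySmall.{w} F.Elements] [IsCofiltered (G ⋙ F).Elements] :
    InitiallySmall.{w} (G ⋙ F).Elements := by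
  obtain ⟨s, hs, h⟩ := InitiallySmall.exists_small_weakly_initial_set.{w} (J := F.Elements)
  let f : s → (G ⋙ F).Elements := fun m =>
    ⟨G.objPreimage m.1.1, F.map (G.objObjPreimageIso m.1.1).inv m.1.2⟩
  refine initiallySmall_of_small_weakly_initial_set (Set.range f) fun i => ?_
  obtain ⟨j, hj, ⟨φ⟩⟩ := h ⟨G.obj i.1, i.2⟩
  refine ⟨f ⟨j, hj⟩, ⟨_, rfl⟩, ⟨CategoryOfElements.homMk _ _ (G.preimage ((G.objObjPreimageIso j.1).hom ≫ φ.1)) ?_⟩⟩
  change F.map (G.map (G.preimage ((G.objObjPreimageIso j.1).hom ≫ φ.1)))
    (F.map (G.objObjPreimageIso j.1).inv j.2) = i.2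
  rw [G.map_preimage, ← Functor.map_comp_apply, Iso.inv_hom_id_assoc]
  exact φ.2

end small

end K611
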