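import Groth.Agent.AlgSp.K611.Slice

/-!
# The point of the small etale site of a chart defined by a point of the small etale site of a space
-/

set_option autoImplicit false
universe v v' u u' w
open CategoryTheory CategoryTheory.Limits AlgebraicGeometry Opposite Topology TopologicalSpace
open AlgSp

set_option backward.isDefEq.respectTransparency false

namespace K611

variable {S : Scheme.{u}} {X : Sp S} (P : GrothendieckTopology.Point.{u} (etTop X)) {E : EtOver X}
  (x : P.fiber.obj E)

/-- The point of the small etale site of a chart. -/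
noncomputable def chPoint : GrothendieckTopology.Point.{u} E.obj.left.left.smallEtaleTopology :=
  have := isEquivalence_toOver E
  have := initiallySmall_elements_comp (toOver E) (P.over x).fiber
  (P.over x).comap (toOver E) (coverPreserving_toOver E)

theorem chPoint_map {V W : E.obj.left.left.Etale} (f : V ⟶ W) (w : (chPoint P x).fiber.obj V) :
    ((chPoint P x).fiber.map f w).1 = P.fiber.map ((chF E).map f) w.1 := rfl

theorem chPoint_mem {V : E.obj.left.left.Etale} (w : (chPoint P x).fiber.obj V) :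
    P.fiber.map (chHom E V) w.1 = x := w.2

/-- The comparison of the fibres of a presheaf. -/
noncomputable def chCmpApp (Q : (EtOver X)ᵒᵖ ⥤ Type (u + 1)) :
    (chPoint P x).presheafFiber.obj ((chF E).op ⋙ Q) ⟶ P.presheafFiber.obj Q :=
  (chPoint P x).presheafFiberDesc (P := (chF E).op ⋙ Q)
    (fun V w => P.toPresheafFiber ((chF E).obj V) w.1 Q) (fun _ _ f w =>
      P.toPresheafFiber_w ((chF E).map f) w.1 Q)

theorem to_chCmpApp (Q : (EtOver X)ᵒᵖ ⥤ Type (u + 1)) (V : E.obj.left.left.Etale)
    (w : (chPoint P x).fiber.obj V) :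
    (chPoint P x).toPresheafFiber V w ((chF E).op ⋙ Q) ≫ chCmpApp P x Q =
      P.toPresheafFiber ((chF E).obj V) w.1 Q :=
  (chPoint P x).toPresheafFiber_presheafFiberDesc (P := (chF E).op ⋙ Q) _ _ V w

theorem to_chCmpApp_apply (Q : (EtOver X)ᵒᵖ ⥤ Type (u + 1)) (V : E.obj.left.left.Etale)
    (w : (chPoint P x).fiber.obj V) (s : Q.obj (op ((chF E).obj V))) :
    chCmpApp P x Q ((chPoint P x).toPresheafFiber V w ((chF E).op ⋙ Q) s) =
      P.toPresheafFiber ((chF E).obj V) w.1 Q s :=
  congrArg (fun k => k s) (to_chCmpApp P x Q V w)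

theorem chCmpApp_naturality {Q Q' : (EtOver X)ᵒᵖ ⥤ Type (u + 1)} (f : Q ⟶ Q') :
    (chPoint P x).presheafFiber.map (Functor.whiskerLeft (chF E).op f) ≫ chCmpApp P x Q' =
      chCmpApp P x Q ≫ P.presheafFiber.map f := by
  apply (chPoint P x).presheafFiber_hom_ext
  intro V w
  rw [← Category.assoc, GrothendieckTopology.Point.toPresheafFiber_naturality, Category.assoc,
    to_chCmpApp, ← Category.assoc, to_chCmpApp, GrothendieckTopology.Point.toPresheafFiber_naturality]
  rfl

/-- The comparison of the fibres of presheaves. -/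
noncomputable def chCmp : (Functor.whiskeringLeft _ _ (Type (u + 1))).obj (chF E).op ⋙
    (chPoint P x).presheafFiber ⟶ P.presheafFiber where
  app Q := chCmpApp P x Q
  naturality _ _ f := chCmpApp_naturality P x f

theorem preservesFiltered_type :
    PreservesFilteredColimitsOfSize.{u, u} (forget (Type (u + 1))) := inferInstance

theorem bijective_chCmpApp (Q : (EtOver X)ᵒᵖ ⥤ Type (u + 1)) : Function.Bijective (chCmpApp P x Q) := by
  constructor
  · intro z₁ z₂ h
    obtain ⟨V, w, s, t, rfl, rfl⟩ := (chPoint P x).toPresheafFiber_jointly_surjective₂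
      (P := (chF E).op ⋙ Q) z₁ z₂
    rw [to_chCmpApp_apply, to_chCmpApp_apply] at h
    obtain ⟨Y, f, y, hy, hf⟩ := (P.toPresheafFiber_eq_iff' ((chF E).obj V) w.1 s t).1 h
    have := full_toOver E
    let g : Y ⟶ E := f ≫ chHom E V
    have hg : ((isoEtOf g).hom ≫ f) ≫ chHom E V = chHom E (etOf g) := by
      rw [Category.assoc]
      exact isoEtOf_hom_comp g
    obtain ⟨k, hk⟩ := (toOver E).map_surjective
      (Over.homMk ((isoEtOf g).hom ≫ f) hg : (toOver E).obj (etOf g) ⟶ (toOver E).obj V)
    have hk' : (chF E).map k = (isoEtOf g).hom ≫ f := congrArg (fun m => m.left) hk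
    have hy' : P.fiber.map (chHom E (etOf g)) (P.fiber.map (isoEtOf g).inv y) = x := by
      rw [← isoEtOf_hom_comp g, ← Functor.map_comp_apply, Iso.inv_hom_id_assoc, Functor.map_comp_apply, hy]
      exact w.2
    let w' : (chPoint P x).fiber.obj (etOf g) := ⟨P.fiber.map (isoEtOf g).inv y, hy'⟩
    refine ((chPoint P x).toPresheafFiber_eq_iff' V w s t).2 ⟨etOf g, k, w', ?_, ?_⟩
    · apply Subtype.ext
      rw [chPoint_map, hk', ← Functor.map_comp_apply, Iso.inv_hom_id_assoc]
      exact hy
    · change Q.map ((chF E).map k).op s = Q.map ((chF E).map k).op t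
      rw [hk', op_comp, Functor.map_comp_apply, Functor.map_comp_apply, hf]
  · intro z
    obtain ⟨E', y, s, rfl⟩ := P.toPresheafFiber_jointly_surjective (P := Q) z
    let a : P.fiber.Elements := ⟨E, x⟩
    let b : P.fiber.Elements := ⟨E', y⟩
    let m := IsCofiltered.min a b
    let g : m ⟶ a := IsCofiltered.minToLeft a b
    let g' : m ⟶ b := IsCofiltered.minToRight a b
    have hm : P.fiber.map (chHom E (etOf g.1)) (P.fiber.map (isoEtOf g.1).inv m.2) = x := by
      rw [← isoEtOf_hom_comp g.1, ← Functor.map_comp_apply, Iso.inv_hom_id_assoc]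
      exact g.2
    let w : (chPoint P x).fiber.obj (etOf g.1) := ⟨P.fiber.map (isoEtOf g.1).inv m.2, hm⟩
    refine ⟨(chPoint P x).toPresheafFiber (etOf g.1) w ((chF E).op ⋙ Q)
      (Q.map ((isoEtOf g.1).hom ≫ g'.1).op s), ?_⟩
    have h1 : P.fiber.map ((isoEtOf g.1).hom ≫ g'.1) (P.fiber.map (isoEtOf g.1).inv m.2) = y := by
      rw [← Functor.map_comp_apply, Iso.inv_hom_id_assoc]
      exact g'.2
    rw [to_chCmpApp_apply, P.toPresheafFiber_w_apply]
    change P.toPresheafFiber E' (P.fiber.map ((isoEtOf g.1).hom ≫ g'.1)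
      (P.fiber.map (isoEtOf g.1).inv m.2)) Q s = _
    rw [h1]

theorem isIso_chCmp : IsIso (chCmp P x) := by
  have : ∀ Q, IsIso ((chCmp P x).app Q) := fun Q =>
    (isIso_iff_bijective _).2 (bijective_chCmpApp P x Q)
  exact NatIso.isIso_of_isIso_app _

end K611
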