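import Groth.Agent.AlgSp.K611.Germ

/-!
# Subsheaves of the final object of the small etale topos of an algebraic space
-/

set_option autoImplicit false
universe v u w
open CategoryTheory CategoryTheory.Limits AlgebraicGeometry Opposite Topology TopologicalSpace
open AlgSp

set_option backward.isDefEq.respectTransparency false

namespace K611

variable {S : Scheme.{u}} {X : Sp S}

/-- A subsheaf of the final object has a section over `E` as soon as the image of `E` is covered by the images
of objects over which it has sections. -/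
theorem nonempty_of_forall (F : EtSh X (Type (u + 1)))
    (hF : ∀ E : EtOver X, Subsingleton (F.obj.obj (op E))) (E : EtOver X)
    (h : ∀ e : ↥E.obj.left.left, ∃ E' : EtOver X, Nonempty (F.obj.obj (op E')) ∧
      Points.ofPt E.obj.hom e ∈ Set.range (Points.ofPt E'.obj.hom)) :
    Nonempty (F.obj.obj (op E)) := by
  let R : Sieve E :=
    { arrows := fun Y _ => Nonempty (F.obj.obj (op Y))
      downward_closed := fun {Y Z f} hf g => hf.map (F.obj.map g.op) }
  have hR : R ∈ etTop X E := by
    refine mem_etTop_of_geometric R fun p hp x => ?_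
    obtain ⟨E', hE', e', he'⟩ := h (x.1.left (IsLocalRing.closedPoint p.K))
    have hp' : IsSepClosed p.K := by
      have : IsAlgClosed p.K := hp
      infer_instance
    obtain ⟨l, hl, -⟩ := exists_lift E'.property p hp' e' (he'.trans (ofPt_nbhd p x _))
    obtain ⟨⟨M, m⟩, α, β, -⟩ := exists_nbhd_prod p ⟨E, x⟩ ⟨E', ⟨l, hl⟩⟩
    exact ⟨M, α.1, hE'.map (F.obj.map β.1.op), m, α.2⟩
  have hs := (isSheaf_iff_isSheaf_of_type _ _).1 F.property R hR
  let x : Presieve.FamilyOfElements F.obj R.arrows := fun Y f hf => Nonempty.some hf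
  have hx : x.Compatible := fun Y₁ Y₂ Z g₁ g₂ f₁ f₂ h₁ h₂ w => (hF Z).elim _ _
  exact ⟨hs.amalgamate x hx⟩

/-- The open subset of `|X|` defined by a subsheaf of the final object. -/
def openOfSub (F : EtSh X (Type (u + 1))) : Set (Points X) :=
  ⋃ (E : EtOver X) (_ : Nonempty (F.obj.obj (op E))), Set.range (Points.ofPt E.obj.hom)

theorem isOpen_openOfSub (F : EtSh X (Type (u + 1))) : IsOpen (openOfSub F) :=
  isOpen_iUnion fun E => isOpen_iUnion fun _ => (isOpenMap_ofPt E.property).isOpen_range

theorem nonempty_iff_range_subset (F : EtSh X (Type (u + 1)))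
    (hF : ∀ E : EtOver X, Subsingleton (F.obj.obj (op E))) (E : EtOver X) :
    Nonempty (F.obj.obj (op E)) ↔ Set.range (Points.ofPt E.obj.hom) ⊆ openOfSub F := by
  constructor
  · intro h
    exact Set.subset_iUnion₂_of_subset E h subset_rfl
  · intro h
    refine nonempty_of_forall F hF E fun e => ?_
    obtain ⟨E', hE', he⟩ := Set.mem_iUnion₂.1 (h ⟨e, rfl⟩)
    exact ⟨E', hE', he⟩

/-- An open subset of `|X|` is the union of the images of the etale charts landing in it. -/
theorem exists_chart_of_mem (hX : IsAlgSpace X) {W : Set (Points X)} (hW : IsOpen W) {x : Points X} (hx : x ∈ W) :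
    ∃ E : EtOver X, x ∈ Set.range (Points.ofPt E.obj.hom) ∧ Set.range (Points.ofPt E.obj.hom) ⊆ W := by
  obtain ⟨U, a, ha, ha'⟩ := hX.atlas
  obtain ⟨u, rfl⟩ := ofPt_surjective ha' x
  let V : U.left.Opens := ⟨Points.ofPt a ⁻¹' W, hW.preimage (Points.continuous_ofPt a)⟩
  let f : Over.mk (V.ι ≫ U.hom) ⟶ U := Over.homMk V.ι
  have hf : Etale f.left := inferInstanceAs (Etale V.ι)
  have hr : ∀ v : ↥V, Points.ofPt (etSub (EtOver.mk a ha) f hf).obj.hom v = Points.ofPt a v.1 := fun v =>
    ofPt_yon_comp _ _ _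
  refine ⟨etSub (EtOver.mk a ha) f hf, ⟨⟨u, hx⟩, hr _⟩, ?_⟩
  rintro _ ⟨v, rfl⟩
  exact (hr v).symm ▸ v.2

theorem eq_of_forall_chart (hX : IsAlgSpace X) {W W' : Set (Points X)} (hW : IsOpen W)
    (h : ∀ E : EtOver X, Set.range (Points.ofPt E.obj.hom) ⊆ W → Set.range (Points.ofPt E.obj.hom) ⊆ W') :
    W ⊆ W' := by
  intro x hx
  obtain ⟨E, h1, h2⟩ := exists_chart_of_mem hX hW hx
  exact h E h2 h1

end K611
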