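import Groth.Agent.AlgSp.K611.SlicePoint
import Groth.Agent.AlgSp.K611.ExtSep
import Groth.Agent.S0656

/-!
# Points of the small etale topos of an algebraic space are geometric points
-/

set_option autoImplicit false
universe v v' u u' w
open CategoryTheory CategoryTheory.Limits AlgebraicGeometry Opposite Topology TopologicalSpace
open AlgSp

set_option backward.isDefEq.respectTransparency false

namespace K611

section general

variable {C : Type u'} [Category.{v'} C] {J : GrothendieckTopology C}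
  {A : Type w} [Category.{v} A] [HasColimitsOfSize.{u, u} A]

/-- Points with isomorphic fibre functors have isomorphic stalk functors. -/
noncomputable def presheafFiberCongr {P Q : GrothendieckTopology.Point.{u} J} (e : P.fiber ≅ Q.fiber) :
    P.presheafFiber (A := A) ≅ Q.presheafFiber where
  hom := GrothendieckTopology.Point.Hom.presheafFiber (Φ₁ := Q) (Φ₂ := P) ⟨e.hom⟩
  inv := GrothendieckTopology.Point.Hom.presheafFiber (Φ₁ := P) (Φ₂ := Q) ⟨e.inv⟩
  hom_inv_id := by
    rw [← GrothendieckTopology.Point.Hom.presheafFiber_comp]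
    have : (⟨e.inv⟩ : P ⟶ Q) ≫ (⟨e.hom⟩ : Q ⟶ P) = 𝟙 P :=
      GrothendieckTopology.Point.hom_ext e.hom_inv_id
    rw [this, GrothendieckTopology.Point.Hom.presheafFiber_id]
  inv_hom_id := by
    rw [← GrothendieckTopology.Point.Hom.presheafFiber_comp]
    have : (⟨e.hom⟩ : Q ⟶ P) ≫ (⟨e.inv⟩ : P ⟶ Q) = 𝟙 Q :=
      GrothendieckTopology.Point.hom_ext e.inv_hom_id
    rw [this, GrothendieckTopology.Point.Hom.presheafFiber_id]

end general

variable {S : Scheme.{u}} {X : Sp S}

/-- Two points of the small etale site with isomorphic restrictions to charts have isomorphic stalk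
functors. -/
theorem nonempty_presheafFiber_iso (P Q : GrothendieckTopology.Point.{u} (etTop X)) {E : EtOver X}
    (x : P.fiber.obj E) (y : Q.fiber.obj E) (e : Nonempty ((chPoint P x).fiber ≅ (chPoint Q y).fiber)) :
    Nonempty (P.presheafFiber (A := Type (u + 1)) ≅ Q.presheafFiber) := by
  obtain ⟨e⟩ := e
  have h1 := isIso_chCmp P x
  have h2 := isIso_chCmp Q y
  exact ⟨(asIso (chCmp P x)).symm ≪≫ Functor.isoWhiskerLeft _ (presheafFiberCongr e) ≪≫
    asIso (chCmp Q y)⟩

section geom

variable (E : EtOver X) {Ω : Type u} [Field Ω] [IsSepClosed Ω] (ξ : Spec (CommRingCat.of Ω) ⟶ E.obj.left.left)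

/-- The extension to the algebraic closure. -/
noncomputable abbrev acl (Ω : Type u) [Field Ω] :
    Spec (CommRingCat.of (AlgebraicClosure Ω)) ⟶ Spec (CommRingCat.of Ω) :=
  Spec.map (CommRingCat.ofHom (algebraMap Ω (AlgebraicClosure Ω)))

/-- The geometric point of `X` through a point of a chart with values in a field. -/
noncomputable def gpOf : FieldPt X where
  K := AlgebraicClosure Ω
  str := (acl Ω ≫ ξ) ≫ E.obj.left.hom
  val := (J S).uliftYonedaEquiv ((yon S).map (Over.homMk (acl Ω ≫ ξ) rfl) ≫ E.obj.hom)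

theorem isGeometric_gpOf : (gpOf E ξ).IsGeometric :=
  inferInstanceAs (IsAlgClosed (AlgebraicClosure Ω))

/-- The tautological lift. -/
noncomputable def gpLift : (gpOf E ξ).pt ⟶ E.obj.left := Over.homMk (acl Ω ≫ ξ) rfl

theorem gpLift_w : (yon S).map (gpLift E ξ) ≫ E.obj.hom = (gpOf E ξ).toHom :=
  ((J S).uliftYonedaEquiv.symm_apply_apply _).symm

/-- The tautological neighbourhood. -/
noncomputable def gpFib : (FieldPt.liftsTo (gpOf E ξ)).obj E := ⟨gpLift E ξ, gpLift_w E ξ⟩

variable {E ξ}

/-- The lift to an etale scheme over the chart. -/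
noncomputable def gpPt {V : E.obj.left.left.Etale} (v : Spec (CommRingCat.of Ω) ⟶ V.left) (hv : v ≫ V.hom = ξ) :
    (gpOf E ξ).pt ⟶ ((chF E).obj V).obj.left := Over.homMk (acl Ω ≫ v) (by
  change (acl Ω ≫ v) ≫ V.hom ≫ E.obj.left.hom = (acl Ω ≫ ξ) ≫ E.obj.left.hom
  rw [← hv, Category.assoc, Category.assoc, Category.assoc])

theorem gpPt_comp {V : E.obj.left.left.Etale} (v : Spec (CommRingCat.of Ω) ⟶ V.left) (hv : v ≫ V.hom = ξ) :
    gpPt v hv ≫ EtOver.homOfEtale V = gpLift E ξ := by
  apply Over.OverMorphism.ext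
  change (acl Ω ≫ v) ≫ V.hom = acl Ω ≫ ξ
  rw [← hv, Category.assoc]

theorem gpPt_w {V : E.obj.left.left.Etale} (v : Spec (CommRingCat.of Ω) ⟶ V.left) (hv : v ≫ V.hom = ξ) :
    (yon S).map (gpPt v hv) ≫ ((chF E).obj V).obj.hom = (gpOf E ξ).toHom := by
  change (yon S).map (gpPt v hv) ≫ (yon S).map (EtOver.homOfEtale V) ≫ E.obj.hom = _
  rw [← Category.assoc, ← Functor.map_comp, gpPt_comp, gpLift_w]

variable (hX : IsAlgSpace X)

/-- The comparison on one object. -/
noncomputable def gpVal {V : E.obj.left.left.Etale} (v : Spec (CommRingCat.of Ω) ⟶ V.left) (hv : v ≫ V.hom = ξ) :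
    (chPoint (ptG hX (gpOf E ξ) (isGeometric_gpOf E ξ)) (gpFib E ξ)).fiber.obj V :=
  ⟨⟨gpPt v hv, gpPt_w v hv⟩, Subtype.ext (gpPt_comp v hv)⟩

variable (E ξ)

/-- The comparison of the fibres of the geometric point of the chart and of the space. -/
noncomputable def gpHom : (Scheme.pointSmallEtale ξ).fiber ⟶
    (chPoint (ptG hX (gpOf E ξ) (isGeometric_gpOf E ξ)) (gpFib E ξ)).fiber where
  app V := ↾fun v => gpVal hX (vl v) (vl_hom v)
  naturality V W f := by
    ext v
    apply Subtype.ext
    apply Subtype.ext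
    apply Over.OverMorphism.ext
    exact (Category.assoc _ _ _).symm

theorem bijective_gpHom (V : E.obj.left.left.Etale) : Function.Bijective ((gpHom E ξ hX).app V) := by
  constructor
  · intro v v' h
    have h1 : acl Ω ≫ vl v = acl Ω ≫ vl v' := congrArg (fun k => k.1.1.left) h
    have := epi_of_field (acl Ω)
    exact Over.OverMorphism.ext ((cancel_epi (acl Ω)).1 h1)
  · rintro ⟨⟨l, hl⟩, hl'⟩
    have h1 : l ≫ EtOver.homOfEtale V = gpLift E ξ := congrArg Subtype.val hl'
    have h2 : l.left ≫ V.hom = acl Ω ≫ ξ := congrArg (fun k => k.left) h1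
    have : Etale V.hom := V.prop
    obtain ⟨v, hv, hv'⟩ := exists_lift_ext (acl Ω) V.hom ξ l.left h2
    refine ⟨Over.homMk v hv, ?_⟩
    apply Subtype.ext
    apply Subtype.ext
    apply Over.OverMorphism.ext
    exact hv'

theorem isIso_gpHom : IsIso (gpHom E ξ hX) := by
  have : ∀ V, IsIso ((gpHom E ξ hX).app V) := fun V => (isIso_iff_bijective _).2 (bijective_gpHom E ξ hX V)
  exact NatIso.isIso_of_isIso_app _

end geom

/-- Every point of the small etale topos of an algebraic space is a geometric point. -/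
theorem exists_geometric_iso (hX : IsAlgSpace X) (P : GrothendieckTopology.Point.{u} (etTop X)) :
    ∃ (p : FieldPt X) (hp : p.IsGeometric),
      Nonempty (P.presheafFiber (A := Type (u + 1)) ≅ (ptG hX p hp).presheafFiber) := by
  obtain ⟨⟨E, x⟩⟩ : Nonempty P.fiber.Elements := IsCofiltered.nonempty
  obtain ⟨Ω, _, _, ξ, ⟨e⟩⟩ := Groth.Agent.S0656.result E.obj.left.left (chPoint P x)
  have := isIso_gpHom E ξ hX
  exact ⟨gpOf E ξ, isGeometric_gpOf E ξ, nonempty_presheafFiber_iso P _ x (gpFib E ξ)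
    ⟨e ≪≫ asIso (gpHom E ξ hX)⟩⟩

end K611
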