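import Groth.Agent.AlgSp.K611.SHStalk
import Groth.Agent.AlgSp.K611.Germ
import Groth.Agent.S2135

/-!
# Geometrically unibranch algebraic spaces
-/

set_option autoImplicit false
universe v u w
open CategoryTheory CategoryTheory.Limits AlgebraicGeometry Opposite Topology TopologicalSpace
open AlgSp

set_option backward.isDefEq.respectTransparency false

namespace K611

theorem isPrime_nilradical_of_ringEquiv {A : Type v} {B : Type w} [CommRing A] [CommRing B] (e : A ≃+* B)
    (h : (nilradical A).IsPrime) : (nilradical B).IsPrime := by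
  have : nilradical B = (nilradical A).comap (e.symm : B →+* A) := by
    ext x
    rw [Ideal.mem_comap, mem_nilradical, mem_nilradical]
    exact (IsNilpotent.map_iff e.symm.injective).symm
  rw [this]
  exact Ideal.IsPrime.comap _

theorem hasUniqueMinimalPrime_iff_of_ringEquiv {A : Type v} {B : Type w} [CommRing A] [CommRing B]
    (e : A ≃+* B) : CAlgX.HasUniqueMinimalPrime A ↔ CAlgX.HasUniqueMinimalPrime B := by
  rw [Groth.Agent.CalgC.GeomUnibranchIff.hasUniqueMinimalPrime_iff,
    Groth.Agent.CalgC.GeomUnibranchIff.hasUniqueMinimalPrime_iff]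
  exact ⟨isPrime_nilradical_of_ringEquiv e, isPrime_nilradical_of_ringEquiv e.symm⟩

theorem hasUniqueMinimalPrime_of_isGeomUnibranch (A : Type u) [CommRing A] [IsLocalRing A]
    (h : CAlg2.IsGeomUnibranch A) : CAlgX.HasUniqueMinimalPrime A := by
  rw [Groth.Agent.CalgC.GeomUnibranchIff.hasUniqueMinimalPrime_iff]
  have : IsDomain (A ⧸ nilradical A) := h.1.1
  exact (Ideal.Quotient.isDomain_iff_prime _).1 this

variable {S : Scheme.{u}} {X : Sp S}

/-- Being geometrically unibranch can be read off on any etale chart. -/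
theorem unibranch_chart_iff (p : FieldPt X) (hp : IsSepClosed p.K) {U : Over S} (a : (yon S).obj U ⟶ X)
    (ha : RepWith @Etale a) (u : ↥U.left) (h : Points.ofPt a u = Points.mk p) :
    CAlg2.IsGeomUnibranch ↥(U.left.presheaf.stalk u) ↔ CAlgX.HasUniqueMinimalPrime ↥(OEtStalk p) := by
  obtain ⟨A, _, _, _, _, _, ⟨e⟩⟩ := exists_strictHens p hp a ha u h
  rw [Groth.Agent.S2135.result (A := ↥(U.left.presheaf.stalk u)) (Ash := A)]
  exact hasUniqueMinimalPrime_iff_of_ringEquiv e.symm

/-- If all charts at a geometric point have local rings with a unique minimal prime then so has the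
etale local ring. -/
theorem hasUniqueMinimalPrime_OEtStalk (hX : IsAlgSpace X) (p : FieldPt X) (hp : IsSepClosed p.K)
    (h : ∀ (U : Over S) (a : (yon S).obj U ⟶ X) (u : ↥U.left), RepWith @Etale a →
      Points.ofPt a u = Points.mk p → CAlgX.HasUniqueMinimalPrime ↥(U.left.presheaf.stalk u)) :
    CAlgX.HasUniqueMinimalPrime ↥(OEtStalk p) := by
  have := isLocalRing_OEtStalk hX p hp
  rw [Groth.Agent.CalgC.GeomUnibranchIff.hasUniqueMinimalPrime_iff, Ideal.isPrime_iff]
  refine ⟨fun h1 => ?_, fun {f g} hfg => ?_⟩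
  · have h2 : (1 : ↥(OEtStalk p)) ∈ nilradical ↥(OEtStalk p) := h1 ▸ Submodule.mem_top
    exact not_isNilpotent_one ((mem_nilradical).1 h2)
  · obtain ⟨E, x, s, t, rfl, rfl⟩ := exists_og₂ hX p hp f g
    obtain ⟨n, hn⟩ := (mem_nilradical).1 hfg
    rw [← map_mul, ← map_pow, og_eq_zero_iff hX p hp] at hn
    obtain ⟨E', k, y, hy, hk⟩ := hn
    have h3 := h E'.obj.left E'.obj.hom _ E'.property (ofPt_nbhd p y (IsLocalRing.closedPoint p.K))
    rw [Groth.Agent.CalgC.GeomUnibranchIff.hasUniqueMinimalPrime_iff] at h3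
    let γ := (E'.obj.left.left.presheaf.germ ⊤ (y.1.left (IsLocalRing.closedPoint p.K)) trivial).hom
    have key : ∀ r : Γ(E.obj.left.left, ⊤), γ (k.hom.left.left.appTop.hom r) ∈ nilradical _ →
        og p E x r ∈ nilradical ↥(OEtStalk p) := by
      rintro r ⟨m, hm⟩
      refine ⟨m, ?_⟩
      rw [← map_pow, ← og_map p k y x hy]
      refine og_eq_zero_of_germ p hp E' y _ ?_
      rw [map_pow]
      change γ _ = 0
      rw [map_pow]
      exact hm
    have h4 : γ (k.hom.left.left.appTop.hom s) * γ (k.hom.left.left.appTop.hom t) ∈ nilradical _ := by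
      refine ⟨n, ?_⟩
      rw [← map_mul, ← map_mul, ← map_pow, ← map_pow, hk, map_zero]
      exact Ideal.zero_mem _
    exact (h3.mem_or_mem h4).imp (key s) (key t)

end K611
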