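import Groth.Agent.AlgSp.K611.AffAtlas
import Groth.Agent.AlgSp.K610.Sub
import Groth.Agent.AlgSp.K610.OpenImm
import Groth.Agent.AlgSp.K610.Factor

/-!
# The open subspace which is the image of an etale chart
-/

set_option autoImplicit false
universe v u w
open CategoryTheory CategoryTheory.Limits AlgebraicGeometry Opposite Topology TopologicalSpace
open AlgSp

set_option backward.isDefEq.respectTransparency false

namespace K611

variable {S : Scheme.{u}}

/-- The open subspace which is the image of an etale chart: the chart is a surjective etale chart of it. -/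
theorem exists_image (X : Space S) {U : Over S} (a : (yon S).obj U ⟶ X.obj) (ha : RepWith @Etale a) :
    ∃ (X' : Space S) (j : X' ⟶ X) (b : (yon S).obj U ⟶ X'.obj), RepWith @IsOpenImmersion j.hom ∧
      Set.range (Points.map j.hom) = Set.range (Points.ofPt a) ∧ b ≫ j.hom = a ∧
      RepWith @Etale b ∧ RepWith @Surjective b := by
  obtain ⟨X', j, hj, hr⟩ := K610.Sub.exists_open_subspace X (Set.range (Points.ofPt a))
    (isOpenMap_ofPt ha).isOpen_range
  obtain ⟨b, hb⟩ := K610.Factor.exists_lift_open hj a hr.symm.subset
  have hm : Mono j.hom := K610.Factor.mono_of_isOpenImmersion hj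
  have he : RepWith @Etale b := K610.OpenImm.repWith_of_comp_mono (j := j.hom) (by rw [hb]; exact ha)
  refine ⟨X', j, b, hj, hr, hb, he, ?_⟩
  rw [K610.Base.repWith_surjective_iff he.1]
  intro y
  obtain ⟨u, hu⟩ : Points.map j.hom y ∈ Set.range (Points.ofPt a) := hr ▸ ⟨y, rfl⟩
  refine ⟨Points.ofScheme U u, (K610.OpenImm.isOpenEmbedding_points X.property hj).injective ?_⟩
  rw [← Points.ofPt_eq_map_ofScheme, Points.map_ofPt, hb, hu]

end K611
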